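import Mathlib
import Cfsg.Prelude.Def_Classical
import Cfsg.Agent.LieClassical.QuadCount
import Cfsg.Agent.LieClassical.OmegaReindex

/-!
# Number of vectors of norm one of the odd-dimensional form (helper150)
-/

set_option autoImplicit false
set_option linter.style.haveILetI false

namespace Cfsg.Agent.H150

open Module Cfsg

variable {F : Type*} [Field F] [Fintype F]

theorem card_sq_eq_one (h2 : (2 : F) ≠ 0) : Nat.card {w : F // w ^ 2 - 1 = 0} = 2 := by
  classical
  have h : (Finset.univ.filter fun w : F => w ^ 2 - 1 = 0) = {1, -1} := by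
    ext w
    simp only [Finset.mem_filter, Finset.mem_univ, true_and, Finset.mem_insert, Finset.mem_singleton]
    constructor
    · intro h
      have h1 : (w - 1) * (w + 1) = 0 := by linear_combination h
      rcases mul_eq_zero.1 h1 with h3 | h3
      · left; exact sub_eq_zero.1 h3
      · right; exact eq_neg_of_add_eq_zero_left h3
    · rintro (rfl | rfl) <;> ring
  rw [Nat.card_eq_fintype_card, Fintype.card_subtype, h, Finset.card_pair]
  intro h1
  apply h2
  linear_combination h1

theorem card_norm_one (h2 : (2 : F) ≠ 0) (n : ℕ) :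
    Nat.card {v : Unit ⊕ (Fin n ⊕ Fin n) → F // quadFormOdd n F v = 1} =
      Fintype.card F ^ (2 * n) + Fintype.card F ^ n := by
  classical
  have h := Cfsg.Agent.LieClassical.QuadCount.card_sum (F := F) n (fun w : F => w ^ 2 - 1)
  rw [card_sq_eq_one h2] at h
  have h1 : Nat.card {p : (Fin n ⊕ Fin n → F) × F // quadFormPlus n F p.1 + (p.2 ^ 2 - 1) = 0} =
      Nat.card {v : Unit ⊕ (Fin n ⊕ Fin n) → F // quadFormOdd n F v = 1} := by
    refine Nat.card_congr
      { toFun := fun p => ⟨Sum.elim (fun _ => p.1.2) p.1.1, ?_⟩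
        invFun := fun v => ⟨(v.1 ∘ Sum.inr, v.1 (Sum.inl ())), ?_⟩
        left_inv := fun p => ?_
        right_inv := fun v => ?_ }
    · have := p.2
      show p.1.2 ^ 2 + quadFormPlus n F p.1.1 = 1
      linear_combination this
    · have := v.2
      show quadFormPlus n F (v.1 ∘ Sum.inr) + (v.1 (Sum.inl ()) ^ 2 - 1) = 0
      have h3 : v.1 (Sum.inl ()) ^ 2 + quadFormPlus n F (v.1 ∘ Sum.inr) = 1 := this
      linear_combination h3
    · rfl
    · apply Subtype.ext
      funext i
      rcases i with i | i
      · rfl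
      · rfl
  rw [h1] at h
  have hq : 0 < Fintype.card F := Fintype.card_pos
  have h3 : Fintype.card F * (Nat.card {v : Unit ⊕ (Fin n ⊕ Fin n) → F // quadFormOdd n F v = 1} + Fintype.card F ^ n) =
      Fintype.card F * (Fintype.card F ^ (2 * n) + 2 * Fintype.card F ^ n) := by
    rw [mul_add, h]
    ring
  have h4 := Nat.eq_of_mul_eq_mul_left hq h3
  omega

end Cfsg.Agent.H150
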