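import Mathlib

/-!
# Fixed point free actions on finite vector spaces (helper150)

* `dvd_finrank_of_fpf` : `s ^ r = 1`, `r` prime, no nonzero fixed vector: `orderOf (|F| : ZMod r) ∣ finrank F V`.
* `isCompl_fix` : `V = ker (s - 1) ⊕ range (s - 1)` when `s ^ r = 1`, `r ≠ 0` in `F`.
* `add_two_le_or` : if `s` commutes with a unipotent `u ≠ 1`, then `k + 2 ≤ dim V` or `2 k ≤ dim V`.
-/

set_option autoImplicit false
set_option linter.style.haveILetI false

namespace Cfsg.Agent.H150

open Module

variable {F : Type*} [Field F] {V : Type*} [AddCommGroup V] [Module F V]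

/-- A linear map of prime order `r` without nonzero fixed vectors on a finite vector space: the order of `q` modulo `r`
divides the dimension. -/
theorem dvd_finrank_of_fpf [Finite F] [FiniteDimensional F V] {r : ℕ} (hr : r.Prime) (s : V →ₗ[F] V)
    (hs : s ^ r = 1) (hf : ∀ v, s v = v → v = 0) :
    orderOf ((Nat.card F : ℕ) : ZMod r) ∣ finrank F V := by
  classical
  haveI : Fact r.Prime := ⟨hr⟩
  haveI : Fintype F := Fintype.ofFinite F
  haveI : Finite V := Module.finite_of_finite F
  haveI : Fintype V := Fintype.ofFinite V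
  have h1 : (show Function.End V from fun v => s v) ^ r ^ 1 = 1 := by
    rw [pow_one]
    have : ∀ n : ℕ, (show Function.End V from fun v => s v) ^ n = fun v => (s ^ n) v := by
      intro n
      induction n with
      | zero => rfl
      | succ n ih =>
        rw [pow_succ, ih]
        funext v
        rw [pow_succ]
        rfl
    rw [this, hs]
    rfl
  have h2 := Equiv.Perm.card_fixedPoints_modEq h1
  have h3 : Fintype.card (Function.fixedPoints (show Function.End V from fun v => s v)) = 1 := by
    rw [Fintype.card_eq_one_iff]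
    refine ⟨⟨0, ?_⟩, ?_⟩
    · show s 0 = 0
      exact map_zero s
    · rintro ⟨v, hv⟩
      apply Subtype.ext
      exact hf v hv
  rw [h3, Module.card_eq_pow_finrank (K := F) (V := V)] at h2
  rw [orderOf_dvd_iff_pow_eq_one, Nat.card_eq_fintype_card]
  have h4 := (ZMod.natCast_eq_natCast_iff _ _ _).2 h2
  push_cast at h4
  exact h4

/-- submodule version -/
theorem dvd_finrank_of_fpf_submodule [Finite F] [FiniteDimensional F V] {r : ℕ} (hr : r.Prime) (s : V →ₗ[F] V)
    (hs : s ^ r = 1) (W : Submodule F V) (hW : ∀ w ∈ W, s w ∈ W) (hf : ∀ v ∈ W, s v = v → v = 0) :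
    orderOf ((Nat.card F : ℕ) : ZMod r) ∣ finrank F W := by
  refine dvd_finrank_of_fpf hr (s.restrict hW) ?_ ?_
  · ext v
    rw [Module.End.pow_restrict]
    simp only [hs]
    rfl
  · intro v hv
    apply Subtype.ext
    refine hf v v.2 ?_
    exact congrArg Subtype.val hv

theorem sum_pow_apply (s : V →ₗ[F] V) (w : V) (r : ℕ) :
    ∑ i ∈ Finset.range r, (s ^ i) (s w - w) = (s ^ r) w - w := by
  induction r with
  | zero => simp
  | succ n ih =>
    rw [Finset.sum_range_succ, ih, map_sub, pow_succ]
    simp only [Module.End.mul_apply]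
    abel

theorem disjoint_fix {r : ℕ} (hrF : (r : F) ≠ 0) (s : V →ₗ[F] V) (hs : s ^ r = 1) :
    Disjoint (LinearMap.ker (s - 1)) (LinearMap.range (s - 1)) := by
  rw [Submodule.disjoint_def]
  rintro v hv ⟨w, rfl⟩
  rw [LinearMap.mem_ker] at hv
  have hfix : s ((s - 1) w) = (s - 1) w := by
    rw [LinearMap.sub_apply, Module.End.one_apply, sub_eq_zero] at hv
    exact hv
  have h1 : ∀ i : ℕ, (s ^ i) ((s - 1) w) = (s - 1) w := by
    intro i
    induction i with
    | zero => simp
    | succ n ih => rw [pow_succ, Module.End.mul_apply, hfix, ih]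
  have h2 := sum_pow_apply s w r
  rw [hs, Module.End.one_apply, sub_self] at h2
  have h3 : ∑ i ∈ Finset.range r, (s ^ i) (s w - w) = (r : F) • ((s - 1) w) := by
    have h4 : s w - w = (s - 1) w := rfl
    rw [h4, Finset.sum_congr rfl (fun i _ => h1 i), Finset.sum_const, Finset.card_range,
      Nat.cast_smul_eq_nsmul]
  rw [h3] at h2
  exact (smul_eq_zero.1 h2).resolve_left hrF

theorem isCompl_fix [FiniteDimensional F V] {r : ℕ} (hrF : (r : F) ≠ 0) (s : V →ₗ[F] V) (hs : s ^ r = 1) :
    IsCompl (LinearMap.ker (s - 1)) (LinearMap.range (s - 1)) := by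
  refine ⟨disjoint_fix hrF s hs, ?_⟩
  rw [codisjoint_iff]
  apply Submodule.eq_top_of_disjoint _ _ _ (disjoint_fix hrF s hs)
  rw [add_comm, LinearMap.finrank_range_add_finrank_ker]

/-- fixed vectors in the range of `s - 1` vanish -/
theorem fpf_range {r : ℕ} (hrF : (r : F) ≠ 0) (s : V →ₗ[F] V) (hs : s ^ r = 1) :
    ∀ v ∈ LinearMap.range (s - 1), s v = v → v = 0 := by
  intro v hv h
  have := (Submodule.disjoint_def.1 (disjoint_fix hrF s hs)) v ?_ hv
  · exact this
  · rw [LinearMap.mem_ker, LinearMap.sub_apply, Module.End.one_apply, h, sub_self]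

/-- a nilpotent map on a nonzero invariant submodule kills a nonzero vector -/
theorem exists_ker_of_isNilpotent (N : V →ₗ[F] V) (hN : IsNilpotent N) (W : Submodule F V)
    (hW : ∀ w ∈ W, N w ∈ W) (hW0 : W ≠ ⊥) : ∃ w ∈ W, w ≠ 0 ∧ N w = 0 := by
  classical
  obtain ⟨v, hv, hv0⟩ := (Submodule.ne_bot_iff _).1 hW0
  obtain ⟨n, hn⟩ := hN
  have hex : ∃ n : ℕ, (N ^ n) v = 0 := ⟨n, by rw [hn]; rfl⟩
  have h1 := Nat.find_spec hex
  have hmem : ∀ n : ℕ, (N ^ n) v ∈ W := by
    intro n
    induction n with
    | zero => simpa using hv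
    | succ n ih => rw [pow_succ', Module.End.mul_apply]; exact hW _ ih
  rcases hk : Nat.find hex with _ | m
  · rw [hk] at h1
    exact absurd (by simpa using h1) hv0
  · refine ⟨(N ^ m) v, hmem m, ?_, ?_⟩
    · exact Nat.find_min hex (by omega)
    · rw [hk, pow_succ', Module.End.mul_apply] at h1
      exact h1

/-- a nilpotent map not killing an invariant submodule: the submodule has dimension at least two -/
theorem two_le_finrank_of_isNilpotent [FiniteDimensional F V] (N : V →ₗ[F] V) (hN : IsNilpotent N)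
    (W : Submodule F V) (hW : ∀ w ∈ W, N w ∈ W) (hW0 : ∃ w ∈ W, N w ≠ 0) : 2 ≤ finrank F W := by
  obtain ⟨w, hw, hNw⟩ := hW0
  obtain ⟨x, hx, hx0, hNx⟩ := exists_ker_of_isNilpotent N hN W hW (by
    rw [Submodule.ne_bot_iff]
    exact ⟨w, hw, fun h => hNw (by rw [h, map_zero])⟩)
  have hli : LinearIndependent F ![(⟨x, hx⟩ : W), ⟨w, hw⟩] := by
    rw [LinearIndependent.pair_iff]
    intro a b hab
    have h1 : a • x + b • w = 0 := congrArg Subtype.val hab
    have h2 : b • N w = 0 := by
      have := congrArg N h1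
      rw [map_add, map_smul, map_smul, hNx, smul_zero, zero_add, map_zero] at this
      exact this
    have hb : b = 0 := (smul_eq_zero.1 h2).resolve_right hNw
    rw [hb, zero_smul, add_zero] at h1
    exact ⟨(smul_eq_zero.1 h1).resolve_right hx0, hb⟩
  have := hli.fintype_card_le_finrank
  simpa using this

/-- **an element of prime order `r` commuting with a nontrivial unipotent element** -/
theorem add_two_le_or [Finite F] [FiniteDimensional F V] {r : ℕ} (hr : r.Prime) (hrF : (r : F) ≠ 0)
    (s u : V →ₗ[F] V) (hsu : Commute s u) (hs : s ^ r = 1) (hs1 : s ≠ 1) (hu : IsNilpotent (u - 1)) (hu1 : u ≠ 1) :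
    orderOf ((Nat.card F : ℕ) : ZMod r) + 2 ≤ finrank F V ∨
      2 * orderOf ((Nat.card F : ℕ) : ZMod r) ≤ finrank F V := by
  set k := orderOf ((Nat.card F : ℕ) : ZMod r) with hk
  set C := LinearMap.ker (s - 1) with hC
  set M := LinearMap.range (s - 1) with hM
  set N := u - 1 with hN
  have hsN : Commute s N := hsu.sub_right (Commute.one_right s)
  have hcomm : ∀ v, s (N v) = N (s v) := fun v => LinearMap.congr_fun hsN.eq v
  have hcompl : IsCompl C M := isCompl_fix hrF s hs
  have hdim := Submodule.finrank_add_eq_of_isCompl hcompl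
  have hfpf : ∀ v ∈ M, s v = v → v = 0 := fpf_range hrF s hs
  have hMs : ∀ w ∈ M, s w ∈ M := by
    rintro _ ⟨w, rfl⟩
    exact ⟨s w, by simp⟩
  have hMN : ∀ w ∈ M, N w ∈ M := by
    rintro _ ⟨w, rfl⟩
    refine ⟨N w, ?_⟩
    rw [LinearMap.sub_apply, LinearMap.sub_apply s 1 w, map_sub, hcomm]
    rfl
  have hCN : ∀ w ∈ C, N w ∈ C := by
    intro w hw
    rw [hC, LinearMap.mem_ker, LinearMap.sub_apply, Module.End.one_apply, sub_eq_zero] at hw ⊢
    rw [hcomm, hw]
  have hM0 : M ≠ ⊥ := by
    intro h
    rw [hM, LinearMap.range_eq_bot, sub_eq_zero] at h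
    exact hs1 h
  have hkM : k ∣ finrank F M := dvd_finrank_of_fpf_submodule hr s hs M hMs hfpf
  have hMpos : 0 < finrank F M := by
    rw [Module.finrank_pos_iff]
    exact Submodule.nontrivial_iff_ne_bot.2 hM0
  by_cases hNM : ∃ w ∈ M, N w ≠ 0
  · right
    set K : Submodule F V := LinearMap.ker N ⊓ M with hK
    have hKs : ∀ w ∈ K, s w ∈ K := by
      rintro w ⟨h1, h2⟩
      refine ⟨?_, hMs w h2⟩
      have h1' : N w = 0 := h1
      show N (s w) = 0
      rw [← hcomm, h1', map_zero]
    have hkK : k ∣ finrank F K := dvd_finrank_of_fpf_submodule hr s hs K hKs (fun v hv => hfpf v hv.2)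
    obtain ⟨x, hx, hx0, hNx⟩ := exists_ker_of_isNilpotent N hu M hMN hM0
    have hKpos : 0 < finrank F K := by
      rw [Module.finrank_pos_iff]
      refine Submodule.nontrivial_iff_ne_bot.2 ?_
      rw [Submodule.ne_bot_iff]
      exact ⟨x, ⟨hNx, hx⟩, hx0⟩
    have hlt : finrank F K < finrank F M := by
      apply Submodule.finrank_lt_finrank_of_lt
      refine lt_of_le_of_ne inf_le_right ?_
      intro h
      obtain ⟨w, hw, hNw⟩ := hNM
      rw [← h] at hw
      exact hNw hw.1
    obtain ⟨a, ha⟩ := hkK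
    obtain ⟨b, hb⟩ := hkM
    have hab : a < b := by
      rw [ha, hb] at hlt
      exact lt_of_mul_lt_mul_left hlt (Nat.zero_le _)
    have ha0 : 0 < a := by
      rcases Nat.eq_zero_or_pos a with h | h
      · rw [h, mul_zero] at ha
        omega
      · exact h
    have : 2 * k ≤ finrank F M := by
      rw [hb, mul_comm]
      exact Nat.mul_le_mul_left k (by omega)
    omega
  · left
    push Not at hNM
    have hNC : ∃ w ∈ C, N w ≠ 0 := by
      by_contra hcon
      push Not at hcon
      apply hu1
      have : N = 0 := by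
        ext v
        obtain ⟨a, ha, b, hb, rfl⟩ := Submodule.mem_sup.1
          (show v ∈ C ⊔ M by rw [hcompl.sup_eq_top]; trivial)
        rw [map_add, hcon a ha, hNM b hb, add_zero]
        rfl
      rw [hN, sub_eq_zero] at this
      exact this
    have h2 := two_le_finrank_of_isNilpotent N hu C hCN hNC
    have h3 := Nat.le_of_dvd hMpos hkM
    omega

end Cfsg.Agent.H150
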