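import Mathlib
import Cfsg.Agent.H150.SpForm
import Cfsg.Agent.ClassicalGeometry.NonsplitTorus

/-!
# Elements of order `2 r` in `PSp_{2n}(q)` coming from the cyclic tori of order `q ^ n ± 1` (helper150)
-/

set_option autoImplicit false
set_option linter.style.haveILetI false

namespace Cfsg.Agent.H150

open Module Cfsg
open scoped MatrixGroups

/-- an element of `SL_2` with square one is `±1` -/
theorem sl2_sq {K : Type*} [Field K] (h2 : (2 : K) ≠ 0) (X : SL(2, K)) (h : X ^ 2 = 1) : X = 1 ∨ X = -1 := by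
  have hCH : (X : Matrix (Fin 2) (Fin 2) K) ^ 2 =
      (X : Matrix (Fin 2) (Fin 2) K).trace • (X : Matrix (Fin 2) (Fin 2) K) - 1 := by
    have := Matrix.aeval_self_charpoly (X : Matrix (Fin 2) (Fin 2) K)
    rw [Matrix.charpoly_fin_two, X.2] at this
    simp only [map_one, map_add, map_sub, map_pow, Polynomial.aeval_X, map_mul,
      Polynomial.aeval_C] at this
    rw [Algebra.algebraMap_eq_smul_one, smul_mul_assoc, one_mul] at this
    rw [eq_comm, ← sub_eq_zero]
    rw [← neg_eq_zero, ← this]
    abel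
  have h1 : (X : Matrix (Fin 2) (Fin 2) K) ^ 2 = 1 := by
    rw [← Matrix.SpecialLinearGroup.coe_pow, h]; rfl
  rw [h1] at hCH
  set t := (X : Matrix (Fin 2) (Fin 2) K).trace with ht
  have h3 : t • (X : Matrix (Fin 2) (Fin 2) K) = (2 : K) • (1 : Matrix (Fin 2) (Fin 2) K) := by
    have : t • (X : Matrix (Fin 2) (Fin 2) K) = 1 + 1 := by
      rw [eq_comm, ← eq_sub_iff_add_eq]
      exact hCH
    rw [this, two_smul]
  have ht0 : t ≠ 0 := by
    intro h0
    rw [h0, zero_smul] at h3
    have := congrFun (congrFun h3 0) 0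
    simp at this
    exact h2 this.symm
  have h4 : (X : Matrix (Fin 2) (Fin 2) K) = (t⁻¹ * 2) • (1 : Matrix (Fin 2) (Fin 2) K) := by
    rw [mul_smul, ← h3, smul_smul, inv_mul_cancel₀ ht0, one_smul]
  have h5 : (t⁻¹ * 2) * (t⁻¹ * 2) = 1 := by
    have := X.2
    rw [h4, Matrix.det_smul, Matrix.det_one] at this
    simpa [sq] using this
  rcases mul_self_eq_one_iff.1 h5 with h6 | h6
  · left
    apply Subtype.ext
    rw [h4, h6, one_smul]; rfl
  · right
    apply Subtype.ext
    rw [h4, h6, neg_smul, one_smul]; rfl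

/-- powers equal to `±1` -/
theorem sl2_pow_iff {K : Type*} [Field K] (h2 : (2 : K) ≠ 0) (A : SL(2, K)) {r : ℕ} (hA : orderOf A = 4 * r)
    (j : ℕ) : (A ^ j = 1 ∨ A ^ j = -1) ↔ 2 * r ∣ j := by
  constructor
  · intro h
    have h1 : A ^ (2 * j) = 1 := by
      rw [mul_comm, pow_mul]
      rcases h with h | h <;> rw [h] <;> simp
    have h3 := orderOf_dvd_of_pow_eq_one h1
    rw [hA] at h3
    have : 4 * r = 2 * (2 * r) := by ring
    rw [this] at h3
    exact Nat.dvd_of_mul_dvd_mul_left (by norm_num) h3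
  · rintro ⟨a, rfl⟩
    apply sl2_sq h2
    rw [← pow_mul, ← orderOf_dvd_iff_pow_eq_one, hA]
    exact ⟨a, by ring⟩

/-- elements of `SL_2(q)` of order dividing `q - 1` or `q + 1` -/
theorem exists_sl2 {K : Type*} [Field K] [Fintype K] {N : ℕ} (hN : 0 < N)
    (h : N ∣ Fintype.card K - 1 ∨ N ∣ Fintype.card K + 1) : ∃ A : SL(2, K), orderOf A = N := by
  classical
  rcases h with h | h
  · obtain ⟨x, hx⟩ := IsCyclic.exists_ofOrder_eq_natCard (α := Kˣ)
    rw [Nat.card_eq_fintype_card, Fintype.card_units] at hx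
    have hpos : 0 < Fintype.card K - 1 := by
      have := Fintype.one_lt_card (α := K)
      omega
    let φ : Kˣ →* SL(2, K) :=
      { toFun := fun x => ⟨!![(x : K), 0; 0, ((x⁻¹ : Kˣ) : K)], by simp [Matrix.det_fin_two]⟩
        map_one' := by
          apply Subtype.ext
          show !![((1 : Kˣ) : K), 0; 0, (((1 : Kˣ)⁻¹ : Kˣ) : K)] = 1
          ext i j; fin_cases i <;> fin_cases j <;> simp
        map_mul' := fun x y => by
          apply Subtype.ext
          show !![((x * y : Kˣ) : K), 0; 0, (((x * y)⁻¹ : Kˣ) : K)] =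
            !![(x : K), 0; 0, ((x⁻¹ : Kˣ) : K)] * !![(y : K), 0; 0, ((y⁻¹ : Kˣ) : K)]
          ext i j; fin_cases i <;> fin_cases j <;> simp [Matrix.mul_apply, Fin.sum_univ_two, mul_comm] }
    have hφ : Function.Injective φ := by
      intro x y hxy
      have h1 := congrArg (fun A : SL(2, K) => A.1 0 0) hxy
      apply Units.ext
      exact h1
    refine ⟨φ (x ^ ((Fintype.card K - 1) / N)), ?_⟩
    rw [orderOf_injective φ hφ, orderOf_pow_of_dvd (by
      have := Nat.div_pos (Nat.le_of_dvd hpos h) hN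
      omega) (by rw [hx]; exact Nat.div_dvd_of_dvd h), hx]
    exact Nat.div_div_self h (by omega)
  · obtain ⟨a, s, ha, -⟩ := Cfsg.Agent.ClassicalGeometry.NonsplitTorus.exists_torus_TI K
    refine ⟨a ^ ((Fintype.card K + 1) / N), ?_⟩
    rw [orderOf_pow_of_dvd (by
      have := Nat.div_pos (Nat.le_of_dvd (Nat.succ_pos _) h) hN
      rw [Nat.succ_eq_add_one] at this
      omega) (by rw [ha]; exact Nat.div_dvd_of_dvd h), ha]
    exact Nat.div_div_self h (by omega)

/-- **tori** -/
theorem exists_psp_of_torus {F : Type*} [Field F] [Fintype F] (h2 : (2 : F) ≠ 0) {n : ℕ} (hn : 1 ≤ n)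
    {r : ℕ} (hr : 0 < r) (h : 4 * r ∣ Fintype.card F ^ n - 1 ∨ 4 * r ∣ Fintype.card F ^ n + 1) :
    ∃ g : PSp n F, orderOf g = 2 * r := by
  obtain ⟨p, hp⟩ := CharP.exists F
  obtain ⟨-, hp', -⟩ := FiniteField.card F p
  have : Fact p.Prime := ⟨hp'⟩
  have : NeZero n := ⟨by omega⟩
  set K := FiniteField.Extension F p n with hK
  have : Fintype K := Fintype.ofFinite K
  have hKcard : Fintype.card K = Fintype.card F ^ n := by
    rw [← Nat.card_eq_fintype_card, ← Nat.card_eq_fintype_card]
    exact FiniteField.natCard_extension F p n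
  have hfin : finrank F K = n := FiniteField.finrank_extension F p n
  have h2K : (2 : K) ≠ 0 := by
    intro h0
    apply h2
    have := (algebraMap F K).injective (a₁ := 2) (a₂ := 0) (by rw [map_zero, map_ofNat, h0])
    exact this
  obtain ⟨A, hA⟩ := exists_sl2 (K := K) (N := 4 * r) (by omega) (by rw [hKcard]; exact h)
  let B : LinearMap.BilinForm F (Fin 2 → K) :=
    LinearMap.mk₂ F (fun u v => Algebra.trace F K (u 0 * v 1 - u 1 * v 0))
      (by intro u u' v; rw [← map_add]; congr 1; simp only [Pi.add_apply]; ring)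
      (by intro c u v; rw [← map_smul]; congr 1; simp only [Pi.smul_apply, smul_mul_assoc, smul_sub])
      (by intro u v v'; rw [← map_add]; congr 1; simp only [Pi.add_apply]; ring)
      (by intro c u v; rw [← map_smul]; congr 1; simp only [Pi.smul_apply, mul_smul_comm, smul_sub])
  have hB : ∀ u v, B u v = Algebra.trace F K (u 0 * v 1 - u 1 * v 0) := fun u v => rfl
  have hnd : ∀ u, (∀ v, B u v = 0) → u = 0 := by
    intro u hu
    have htr := traceForm_nondegenerate F K
    have hz : ∀ x : K, (∀ y : K, Algebra.trace F K (x * y) = 0) → x = 0 := by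
      intro x hx
      exact htr.1 x (fun y => by rw [Algebra.traceForm_apply]; exact hx y)
    funext i
    fin_cases i
    · apply hz
      intro y
      have := hu ![0, y]
      rw [hB] at this
      simpa using this
    · apply hz
      intro y
      have := hu ![y, 0]
      rw [hB] at this
      simpa using this
  let L : Module.End K (Fin 2 → K) →+* Module.End F (Fin 2 → K) :=
    { toFun := fun f => f.restrictScalars F
      map_one' := rfl
      map_mul' := fun f g => rfl
      map_zero' := rfl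
      map_add' := fun f g => rfl }
  let T : Module.End F (Fin 2 → K) := L (Matrix.toLinAlgEquiv' A.1)
  have hTv : ∀ v, T v = A.1.mulVec v := fun v => rfl
  have hTj : ∀ (j : ℕ) (X : SL(2, K)), T ^ j = L (Matrix.toLinAlgEquiv' X.1) ↔ A ^ j = X := by
    intro j X
    have e1 : T ^ j = L (Matrix.toLinAlgEquiv' (A ^ j).1) := by
      show L (Matrix.toLinAlgEquiv' A.1) ^ j = _
      rw [← map_pow, ← map_pow]
      rfl
    rw [e1]
    constructor
    · intro h
      apply Subtype.ext
      apply (Matrix.toLinAlgEquiv' (R := K)).injective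
      apply LinearMap.ext
      intro v
      exact LinearMap.congr_fun h v
    · intro h
      rw [h]
  refine exists_psp hn B ?_ hnd ?_ T ?_ (2 * r) ?_
  · intro u
    rw [hB, mul_comm (u 0) (u 1), sub_self, map_zero]
  · rw [Module.finrank_pi_fintype]
    simp [hfin]
  · intro u v
    rw [hB, hB, hTv, hTv]
    congr 1
    have hdet := A.2
    rw [Matrix.det_fin_two] at hdet
    simp only [Matrix.mulVec, dotProduct, Fin.sum_univ_two]
    linear_combination (u 0 * v 1 - u 1 * v 0) * hdet
  · intro j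
    rw [← sl2_pow_iff h2K A hA j, ← hTj j 1, ← hTj j (-1)]
    have e1 : L (Matrix.toLinAlgEquiv' (1 : SL(2, K)).1) = 1 := by
      have : (1 : SL(2, K)).1 = (1 : Matrix (Fin 2) (Fin 2) K) := rfl
      rw [this, map_one, map_one]
    have e2 : L (Matrix.toLinAlgEquiv' (-1 : SL(2, K)).1) = -1 := by
      have : (-1 : SL(2, K)).1 = -(1 : Matrix (Fin 2) (Fin 2) K) := rfl
      rw [this, map_neg, map_one, map_neg, map_one]
    rw [e1, e2]

end Cfsg.Agent.H150
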