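import Mathlib
import Cfsg.Agent.H150.OmegaSp
import Cfsg.Agent.H150.OddCount
import Cfsg.Agent.H150.SpTorus

/-!
# From `PΩ_{2n+1}(q)` to `PSp_{2n}(q)`: elements of order `2 r`, `r` odd, prime to `q` (helper150)
-/

set_option autoImplicit false
set_option linter.style.haveILetI false

namespace Cfsg.Agent.H150

open Module Cfsg
open Cfsg.Agent.LieClassical.OrthCount Cfsg.Agent.LieClassical.OmegaReindex
open Cfsg.Agent.ClassicalGeometry.SympBasic Cfsg.Agent.ClassicalGeometry.SympIso
open Cfsg.Agent.ClassicalGeometry.SpinorSign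

variable {F : Type*} [Field F]

/-- an isometry in the commutator subgroup which is an involution: the number of vectors of norm one that it moves is
divisible by four -/
theorem four_dvd_moved [Finite F] (h2 : (2 : F) ≠ 0) {ι : Type} [Fintype ι] [DecidableEq ι]
    (Q : QuadraticForm F (ι → F)) (hQ : (QuadraticMap.polarBilin Q).Nondegenerate) (hn : 2 ≤ Fintype.card ι)
    (y : OG Q) (hy : y ∈ commutator (OG Q)) (hy2 : y ^ 2 = 1) :
    ∃ a : ℕ, Nat.card {v : ι → F // Q v = 1} =
      Nat.card {v : ι → F // Q v = 1 ∧ (y : (ι → F) ≃ₗ[F] (ι → F)) v = v} + 4 * a := by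
  classical
  obtain ⟨g, rfl⟩ := (isometryGroupEquiv Q).surjective y
  have hg : g ∈ Cfsg.Omega F (⇑Q) := (mem_commutator_congr (isometryGroupEquiv Q) g).1 hy
  have hs := ((Cfsg.Agent.ClassicalGeometry.OmegaIndex.mem_Omega_iff h2 Q hQ hn one_ne_zero g).1 hg).2
  have hg2 : g ^ 2 = 1 := by
    apply (isometryGroupEquiv Q).injective
    rw [map_pow, hy2, map_one]
  have : Finite (ι → F) := inferInstance
  letI : Fintype {x : ι → F // Q x = 1} := Fintype.ofFinite _
  rw [spinorSign_apply] at hs
  set σ := quadricPerm (⇑Q) 1 g with hσ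
  have hσ2 : σ ^ 2 = 1 := by rw [hσ, ← map_pow, hg2, map_one]
  rw [Equiv.Perm.sign_of_pow_two_eq_one hσ2] at hs
  have heven : Even ((Fintype.card {x : ι → F // Q x = 1} - Fintype.card (Function.fixedPoints σ)) / 2) := by
    by_contra hodd
    rw [Nat.not_even_iff_odd] at hodd
    rw [hodd.neg_one_pow] at hs
    exact absurd hs (by decide)
  have hle : Fintype.card (Function.fixedPoints σ) ≤ Fintype.card {x : ι → F // Q x = 1} :=
    Fintype.card_subtype_le _
  have hmod : Fintype.card {x : ι → F // Q x = 1} ≡ Fintype.card (Function.fixedPoints σ) [MOD 2] := by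
    have : Fact (Nat.Prime 2) := ⟨Nat.prime_two⟩
    refine Equiv.Perm.card_fixedPoints_modEq (f := (σ : {x : ι → F // Q x = 1} → _)) (n := 1) ?_
    funext x
    have := congrArg (fun τ : Equiv.Perm {x : ι → F // Q x = 1} => τ x) hσ2
    exact this
  have hcf : Fintype.card (Function.fixedPoints σ) =
      Nat.card {v : ι → F // Q v = 1 ∧ ((isometryGroupEquiv Q g : OG Q) : (ι → F) ≃ₗ[F] (ι → F)) v = v} := by
    rw [← Nat.card_eq_fintype_card]
    refine Nat.card_congr
      { toFun := fun x => ⟨x.1.1, x.1.2, congrArg Subtype.val x.2⟩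
        invFun := fun v => ⟨⟨v.1, v.2.1⟩, Subtype.ext v.2.2⟩
        left_inv := fun x => rfl
        right_inv := fun v => rfl }
  obtain ⟨b, hb⟩ := heven
  obtain ⟨d, hd⟩ := (Nat.modEq_iff_dvd' hle).1 hmod.symm
  refine ⟨b, ?_⟩
  rw [← hcf, Nat.card_eq_fintype_card]
  omega

/-- an isometry of prime order `r`: the number of vectors of norm one that it moves is divisible by `r` -/
theorem prime_dvd_moved [Finite F] {ι : Type} [Fintype ι] [DecidableEq ι]
    (Q : QuadraticForm F (ι → F)) {r : ℕ} (hr : r.Prime) (x : OG Q) (hx : x ^ r = 1) :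
    Nat.card {v : ι → F // Q v = 1} ≡
      Nat.card {v : ι → F // Q v = 1 ∧ (x : (ι → F) ≃ₗ[F] (ι → F)) v = v} [MOD r] := by
  classical
  have : Fact r.Prime := ⟨hr⟩
  letI : Fintype {x : ι → F // Q x = 1} := Fintype.ofFinite _
  let f : Function.End {v : ι → F // Q v = 1} := fun v => ⟨(x : (ι → F) ≃ₗ[F] (ι → F)) v.1, by rw [x.2]; exact v.2⟩
  have hfj : ∀ (j : ℕ) (v : {v : ι → F // Q v = 1}), ((f ^ j) v).1 = ((x ^ j : OG Q) : (ι → F) ≃ₗ[F] (ι → F)) v.1 := by
    intro j
    induction j with
    | zero => intro v; rfl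
    | succ j ih =>
      intro v
      rw [pow_succ, pow_succ]
      exact ih (f v)
  have hf : f ^ r ^ 1 = 1 := by
    rw [pow_one]
    funext v
    apply Subtype.ext
    rw [hfj, hx]
    rfl
  have h := Equiv.Perm.card_fixedPoints_modEq hf
  rw [← Nat.card_eq_fintype_card, ← Nat.card_eq_fintype_card] at h
  refine h.trans ?_
  have : Nat.card (Function.fixedPoints f) =
      Nat.card {v : ι → F // Q v = 1 ∧ (x : (ι → F) ≃ₗ[F] (ι → F)) v = v} := by
    refine Nat.card_congr
      { toFun := fun x => ⟨x.1.1, x.1.2, congrArg Subtype.val x.2⟩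
        invFun := fun v => ⟨⟨v.1, v.2.1⟩, Subtype.ext v.2.2⟩
        left_inv := fun x => rfl
        right_inv := fun v => rfl }
  rw [this]

/-- a line contains zero or two vectors of norm one -/
theorem card_line (h2 : (2 : F) ≠ 0) {V : Type*} [AddCommGroup V] [Module F V] (Q : QuadraticForm F V)
    (C : Submodule F V) (hC : finrank F C = 1) :
    Nat.card {v : V // Q v = 1 ∧ v ∈ C} = 0 ∨ Nat.card {v : V // Q v = 1 ∧ v ∈ C} = 2 := by
  classical
  by_cases h : ∃ v ∈ C, Q v = 1
  · right
    obtain ⟨w, hw, hQw⟩ := h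
    have hw0 : w ≠ 0 := by
      rintro rfl
      rw [QuadraticMap.map_zero] at hQw
      exact zero_ne_one hQw
    have hspan := (finrank_eq_one_iff_of_nonzero' (K := F) (⟨w, hw⟩ : C)
      (fun h => hw0 (congrArg Subtype.val h))).1 hC
    have hset : ∀ v : V, (Q v = 1 ∧ v ∈ C) ↔ (v = w ∨ v = -w) := by
      intro v
      constructor
      · rintro ⟨hv1, hv⟩
        obtain ⟨b, hb⟩ := hspan ⟨v, hv⟩
        have hb' : b • w = v := congrArg Subtype.val hb
        rw [← hb', QuadraticMap.map_smul, hQw, smul_eq_mul, mul_one] at hv1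
        rcases mul_self_eq_one_iff.1 hv1 with h | h
        · left; rw [← hb', h, one_smul]
        · right; rw [← hb', h, neg_smul, one_smul]
      · rintro (rfl | rfl)
        · exact ⟨hQw, hw⟩
        · exact ⟨by rw [QuadraticMap.map_neg, hQw], C.neg_mem hw⟩
    have hne : w ≠ -w := by
      intro h
      apply hw0
      have : (2 : F) • w = 0 := by
        rw [two_smul]
        nth_rewrite 2 [h]
        exact add_neg_cancel w
      exact (smul_eq_zero.1 this).resolve_left h2
    rw [Nat.card_congr (Equiv.subtypeEquivRight hset)]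
    have : {v : V | v = w ∨ v = -w} = ({w, -w} : Finset V) := by
      ext v; simp
    have h3 : Nat.card ({v : V | v = w ∨ v = -w} : Set V) = 2 := by
      rw [this, Nat.card_eq_fintype_card]
      simp [Finset.card_pair hne]
    exact h3
  · left
    push Not at h
    rw [Nat.card_eq_zero]
    left
    exact ⟨fun v => h v.1 v.2.2 v.2.1⟩

end Cfsg.Agent.H150
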