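import Mathlib
import Cfsg.Agent.H150.OmegaSpTwo

/-!
# From `PΩ_{2n+1}(q)` to `PSp_{2n}(q)`: elements of order `2 r`, `r` odd, prime to `q` (helper150)
-/

set_option autoImplicit false
set_option linter.style.haveILetI false

namespace Cfsg.Agent.H150

open Module Cfsg
open Cfsg.Agent.LieClassical.OrthCount Cfsg.Agent.LieClassical.OmegaReindex
open Cfsg.Agent.ClassicalGeometry.SympBasic Cfsg.Agent.ClassicalGeometry.SympIso
open Cfsg.Agent.ClassicalGeometry.SpinorSign

variable {F : Type*} [Field F]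

/-- an endomorphism of determinant one of a line is the identity -/
theorem eq_one_of_det_eq_one {W : Type*} [AddCommGroup W] [Module F W]
    (h1 : finrank F W = 1) (f : W →ₗ[F] W) (hf : LinearMap.det f = 1) : f = 1 := by
  have : Nontrivial W := Module.nontrivial_of_finrank_pos (R := F) (by omega)
  obtain ⟨v, hv⟩ := exists_ne (0 : W)
  have hspan := (finrank_eq_one_iff_of_nonzero' (K := F) v hv).1 h1
  obtain ⟨b, hb⟩ := hspan (f v)
  have hfb : f = b • (1 : Module.End F W) := by
    ext w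
    obtain ⟨x, rfl⟩ := hspan w
    rw [map_smul, ← hb]
    show x • b • v = b • (x • v)
    rw [smul_comm]
  rw [hfb, LinearMap.det_smul, h1, pow_one] at hf
  have h2 : LinearMap.det (1 : Module.End F W) = 1 := LinearMap.det_id
  rw [h2, mul_one] at hf
  rw [hfb, hf, one_smul]

/-- an endomorphism of determinant one preserving a decomposition `C ⊕ M`, with `dim C = 1` and of determinant one on
`M`, is trivial on `C` -/
theorem trivial_on_line {V : Type*} [AddCommGroup V] [Module F V] [FiniteDimensional F V] {C M : Submodule F V}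
    (h : IsCompl C M) (hC : finrank F C = 1) (y : V →ₗ[F] V) (hyC : ∀ v ∈ C, y v ∈ C) (hyM : ∀ v ∈ M, y v ∈ M)
    (hdet : LinearMap.det y = 1) (hdM : LinearMap.det (y.restrict hyM) = 1) : ∀ v ∈ C, y v = v := by
  have hd := LinearMap.det_eq_det_mul_det M y hyM
  rw [hdet] at hd
  have hdM' : LinearMap.det (y.restrict (p := M) (q := M) (fun x hx => hyM x hx)) = 1 := hdM
  rw [hdM', one_mul] at hd
  have hq1 : finrank F (V ⧸ M) = 1 := by
    have h1 := Submodule.finrank_quotient_add_finrank M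
    have h3 := Submodule.finrank_add_eq_of_isCompl h
    omega
  have hm := eq_one_of_det_eq_one hq1 (M.mapQ M y hyM) hd.symm
  intro v hv
  have h4 := LinearMap.congr_fun hm (Submodule.Quotient.mk v)
  rw [Submodule.mapQ_apply] at h4
  have h5 : (Submodule.Quotient.mk (y v) : V ⧸ M) = Submodule.Quotient.mk v := h4
  rw [Submodule.Quotient.eq] at h5
  have h6 : y v - v ∈ C ⊓ M := ⟨C.sub_mem (hyC v hv) hv, h5⟩
  rw [h.inf_eq_bot] at h6
  exact sub_eq_zero.1 ((Submodule.mem_bot F).1 h6)

/-- even powers of `-1` -/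
theorem even_neg_one_pow_end {V : Type*} [AddCommGroup V] [Module F V] {j : ℕ} (hj : Even j) :
    (-1 : V →ₗ[F] V) ^ j = 1 := by
  obtain ⟨i, rfl⟩ := hj
  have h1 : (-1 : V →ₗ[F] V) ^ 2 = 1 := by
    rw [pow_two]
    exact LinearMap.ext fun v => by
      rw [Module.End.mul_apply, LinearMap.neg_apply, LinearMap.neg_apply, Module.End.one_apply,
        Module.End.one_apply, neg_neg]
  rw [← two_mul, pow_mul, h1, one_pow]

/-- odd powers of `-1` -/
theorem odd_neg_one_pow_end {V : Type*} [AddCommGroup V] [Module F V] {j : ℕ} (hj : Odd j) :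
    (-1 : V →ₗ[F] V) ^ j = -1 := by
  obtain ⟨i, rfl⟩ := hj
  rw [pow_succ, even_neg_one_pow_end (even_two_mul i), one_mul]

/-- the arithmetic of the count -/
theorem arith_count {q n r f a : ℕ} (hq : Odd q) (hr : r.Prime) (hr2 : r ≠ 2) (hrq : ¬ r ∣ q)
    (hf : f = 0 ∨ f = 2) (hD : q ^ (2 * n) + q ^ n = f + 4 * a)
    (hmod : q ^ (2 * n) + q ^ n ≡ f [MOD r]) (h2n : q ^ (2 * n) ≡ 1 [MOD r]) :
    4 * r ∣ q ^ n - 1 ∨ 4 * r ∣ q ^ n + 1 := by
  have hQ : Odd (q ^ n) := hq.pow
  have hcop : Nat.Coprime 4 r := by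
    have : (4 : ℕ) = 2 ^ 2 := by norm_num
    rw [this]
    exact Nat.Coprime.pow_left 2 ((Nat.coprime_primes Nat.prime_two hr).2 hr2.symm)
  have hrQ : ¬ r ∣ q ^ n := fun h => hrq (hr.dvd_of_dvd_pow h)
  have hsq : q ^ (2 * n) = q ^ n * q ^ n := by rw [← pow_add]; congr 1; ring
  rw [hsq] at hD hmod h2n
  generalize q ^ n = Q at *
  obtain ⟨t, ht⟩ := hQ
  rcases hf with rfl | rfl
  · right
    -- `D = Q (Q + 1)`
    refine hcop.mul_dvd_of_dvd_of_dvd ?_ ?_
    · have h1 : 4 ∣ Q * (Q + 1) := ⟨a, by linarith⟩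
      refine Nat.Coprime.dvd_of_dvd_mul_left ?_ h1
      have : (4 : ℕ) = 2 ^ 2 := by norm_num
      rw [this]
      exact Nat.Coprime.pow_left 2 (Nat.coprime_two_left.2 ⟨t, ht⟩)
    · have h1 : r ∣ Q * (Q + 1) := by
        have := (Nat.modEq_zero_iff_dvd).1 hmod
        have e : Q * (Q + 1) = Q * Q + Q := by ring
        rw [e]; exact this
      exact (hr.dvd_mul.1 h1).resolve_left hrQ
  · left
    -- `D = (Q - 1) (Q + 2)`
    obtain ⟨S, rfl⟩ : ∃ S, Q = S + 1 := ⟨2 * t, ht⟩
    rw [Nat.add_sub_cancel]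
    refine hcop.mul_dvd_of_dvd_of_dvd ?_ ?_
    · have h1 : 4 ∣ S * (S + 3) := ⟨a, by nlinarith⟩
      refine Nat.Coprime.dvd_of_dvd_mul_right ?_ h1
      have : (4 : ℕ) = 2 ^ 2 := by norm_num
      rw [this]
      exact Nat.Coprime.pow_left 2 (Nat.coprime_two_left.2 ⟨t + 1, by omega⟩)
    · have h1 : r ∣ S * (S + 3) := by
        have := (Nat.modEq_iff_dvd' (by nlinarith [Nat.zero_le S] : 2 ≤ (S + 1) * (S + 1) + (S + 1))).1 hmod.symm
        have e : (S + 1) * (S + 1) + (S + 1) - 2 = S * (S + 3) := by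
          have : (S + 1) * (S + 1) + (S + 1) = S * (S + 3) + 2 := by ring
          omega
        rwa [e] at this
      have h3 : r ∣ S * (S + 2) := by
        have := (Nat.modEq_iff_dvd' (by nlinarith [Nat.zero_le S] : 1 ≤ (S + 1) * (S + 1))).1 h2n.symm
        have e : (S + 1) * (S + 1) - 1 = S * (S + 2) := by
          have : (S + 1) * (S + 1) = S * (S + 2) + 1 := by ring
          omega
        rwa [e] at this
      by_contra hS
      have h4 := (hr.dvd_mul.1 h1).resolve_left hS
      have h5 := (hr.dvd_mul.1 h3).resolve_left hS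
      have h6 : r ∣ 1 := by
        have := Nat.dvd_sub h4 h5
        have e : S + 3 - (S + 2) = 1 := by omega
        rwa [e] at this
      exact hr.one_lt.ne' (Nat.dvd_one.1 h6)

/-- **`Ω → Sp`**, the prime two and an odd prime different from the characteristic -/
theorem omega_to_sp_two [Fintype F] (h2 : (2 : F) ≠ 0) {n : ℕ} (hn : 1 ≤ n)
    {r : ℕ} (hr : r.Prime) (hr2 : r ≠ 2) (hrF : (r : F) ≠ 0)
    (Q : QuadraticForm F (Unit ⊕ (Fin n ⊕ Fin n) → F)) (hQ : Q = quadOdd n F)
    (T : OG Q) (hT : T ∈ commutator (OG Q)) (ho : orderOf T = 2 * r) :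
    ∃ g : PSp n F, orderOf g = 2 * r := by
  classical
  have hrodd : Odd r := hr.odd_of_ne_two hr2
  have hQnd : ND Q := by rw [hQ]; exact nd_quadOdd h2 n
  have hdim := finrank_quadOdd (F := F) n
  -- `x`, `y`
  have hyG : (T ^ r) ^ 2 = 1 := by rw [← pow_mul, mul_comm, ← ho, pow_orderOf_eq_one]
  have hxG : (T ^ 2) ^ r = 1 := by rw [← pow_mul, ← ho, pow_orderOf_eq_one]
  have hyG1 : T ^ r ≠ 1 := by
    intro h
    have := orderOf_dvd_of_pow_eq_one h
    rw [ho] at this
    have := Nat.le_of_dvd hr.pos this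
    have := hr.pos
    omega
  have hxG1 : T ^ 2 ≠ 1 := by
    intro h
    have := orderOf_dvd_of_pow_eq_one h
    rw [ho] at this
    have := Nat.le_of_dvd (by norm_num) this
    have := hr.two_le
    omega
  obtain ⟨σ, hσ⟩ := exists_spinor h2 Q hQnd (by rw [hdim]; omega)
  have hymem : T ^ r ∈ commutator (OG Q) := Subgroup.pow_mem _ hT r
  have hdety := ((hσ (T ^ r)).1 hymem).1
  set X : OG Q := T ^ 2 with hX
  set Y : OG Q := T ^ r with hY
  let x : (Unit ⊕ (Fin n ⊕ Fin n) → F) →ₗ[F] (Unit ⊕ (Fin n ⊕ Fin n) → F) :=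
    ((X : (Unit ⊕ (Fin n ⊕ Fin n) → F) ≃ₗ[F] (Unit ⊕ (Fin n ⊕ Fin n) → F)) : _ →ₗ[F] _)
  let y : (Unit ⊕ (Fin n ⊕ Fin n) → F) →ₗ[F] (Unit ⊕ (Fin n ⊕ Fin n) → F) :=
    ((Y : (Unit ⊕ (Fin n ⊕ Fin n) → F) ≃ₗ[F] (Unit ⊕ (Fin n ⊕ Fin n) → F)) : _ →ₗ[F] _)
  have hXx : ∀ v, (X : (Unit ⊕ (Fin n ⊕ Fin n) → F) ≃ₗ[F] (Unit ⊕ (Fin n ⊕ Fin n) → F)) v = x v := fun v => rfl
  have hYy : ∀ v, (Y : (Unit ⊕ (Fin n ⊕ Fin n) → F) ≃ₗ[F] (Unit ⊕ (Fin n ⊕ Fin n) → F)) v = y v := fun v => rfl
  have hx : x ^ r = 1 := (og_pow_eq_one_iff X x hXx r).1 hxG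
  have hy : y ^ 2 = 1 := (og_pow_eq_one_iff Y y hYy 2).1 hyG
  have hy1 : y ≠ 1 := by
    intro h
    apply hyG1
    rw [← pow_one Y, og_pow_eq_one_iff Y y hYy, pow_one, h]
  have hx1 : x ≠ 1 := by
    intro h
    apply hxG1
    rw [← pow_one X, og_pow_eq_one_iff X x hXx, pow_one, h]
  have hxQ : ∀ v, Q (x v) = Q v := X.2
  have hyQ : ∀ v, Q (y v) = Q v := Y.2
  have hXY : X * Y = Y * X := by
    rw [hX, hY, ← pow_add, ← pow_add, add_comm]
  have hxy : ∀ v, x (y v) = y (x v) := by
    intro v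
    have := congrArg (fun Z : OG Q => (Z : (Unit ⊕ (Fin n ⊕ Fin n) → F) ≃ₗ[F] (Unit ⊕ (Fin n ⊕ Fin n) → F)) v) hXY
    exact this
  have hxx : ∀ v, x (x v) = x (x v) := fun v => rfl
  have hyM := (range_inv hxy).1
  have hyC := (range_inv hxy).2
  have hxM := (range_inv hxx).1
  obtain ⟨c, hc1, hc2, hCnd, hMnd, halt, hnd, hfpf⟩ := orth_data Q hQnd hdim hrodd hrF x hx hxQ hxM
  have hcompl := isCompl_fix hrF x hx
  set C := LinearMap.ker (x - 1) with hC
  set M := LinearMap.range (x - 1) with hM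
  set QM := Q.comp M.subtype with hQM
  have hM0 : M ≠ ⊥ := by
    intro h
    rw [hM, LinearMap.range_eq_bot, sub_eq_zero] at h
    exact hx1 h
  haveI : Nontrivial M := Submodule.nontrivial_iff_ne_bot.2 hM0
  set xM : M →ₗ[F] M := x.restrict hxM with hxMdef
  set yM : M →ₗ[F] M := y.restrict hyM with hyMdef
  have hxM1 : xM ^ r = 1 := restrict_pow_eq_one hxM hx
  have hyM1 : yM ^ 2 = 1 := restrict_pow_eq_one hyM hy
  have hxMne : xM ≠ 1 := by
    intro h
    obtain ⟨v, hv, hv0⟩ := (Submodule.ne_bot_iff _).1 hM0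
    have := hfpf ⟨v, hv⟩ (by rw [h]; rfl)
    exact hv0 (congrArg Subtype.val this)
  have hxMyM : ∀ v : M, xM (yM v) = yM (xM v) := fun v => Subtype.ext (hxy v)
  have hcM : Commute xM yM := LinearMap.ext hxMyM
  have hxMB : ∀ v w, quadSym QM xM r (xM v) (xM w) = quadSym QM xM r v w :=
    fun v w => quadSym_map QM xM xM r (fun v => hxQ v) (fun v => rfl) v w
  have hyMB : ∀ v w, quadSym QM xM r (yM v) (yM w) = quadSym QM xM r v w :=
    fun v w => quadSym_map QM xM yM r (fun v => hyQ v) hxMyM v w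
  have : Fact r.Prime := ⟨hr⟩
  have hox : orderOf xM = r := orderOf_eq_prime hxM1 hxMne
  have hcop : Nat.Coprime 2 r := (Nat.coprime_primes Nat.prime_two hr).2 hr2.symm
  have hxj : ∀ j, xM ^ j = 1 ↔ r ∣ j := fun j => by rw [← hox, orderOf_dvd_iff_pow_eq_one]
  rcases Nat.eq_zero_or_pos c with hc0 | hc0
  · -- `dim C = 1`
    have hC1 : finrank F C = 1 := by rw [hc2, hc0]
    have hMf : finrank F M = 2 * n := by omega
    have hcases : yM = 1 ∨ yM = -1 ∨ (yM ≠ 1 ∧ yM ≠ -1) := by tauto
    rcases hcases with h | h | ⟨h1, h1'⟩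
    · exfalso
      apply hy1
      refine eq_one_of_restrict hcompl ?_ ?_
      · refine trivial_on_line hcompl hC1 y hyC hyM hdety ?_
        show LinearMap.det yM = 1
        rw [h]
        exact LinearMap.det_id
      · intro v hv
        exact congrArg Subtype.val (LinearMap.congr_fun h ⟨v, hv⟩)
    · -- counting
      have hdetyM : LinearMap.det yM = 1 := by
        have e1 : yM = (-1 : F) • (1 : Module.End F M) := by
          rw [h]; exact LinearMap.ext fun v => by simp
        have e2 : LinearMap.det (1 : Module.End F M) = 1 := LinearMap.det_id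
        rw [e1, LinearMap.det_smul, hMf, e2, mul_one, pow_mul]
        norm_num
      have hyCt := trivial_on_line hcompl hC1 y hyC hyM hdety hdetyM
      have hyMt : ∀ v ∈ M, y v = -v := fun v hv => congrArg Subtype.val (LinearMap.congr_fun h ⟨v, hv⟩)
      -- fixed vectors
      have hfixy : ∀ v, (Q v = 1 ∧ (Y : (Unit ⊕ (Fin n ⊕ Fin n) → F) ≃ₗ[F] (Unit ⊕ (Fin n ⊕ Fin n) → F)) v = v) ↔
          (Q v = 1 ∧ v ∈ C) := by
        intro v
        refine and_congr_right fun _ => ?_
        rw [hYy]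
        constructor
        · intro hv
          obtain ⟨a, ha, b, hb, rfl⟩ := Submodule.mem_sup.1
            (show v ∈ C ⊔ M by rw [hcompl.sup_eq_top]; trivial)
          rw [map_add, hyCt a ha, hyMt b hb] at hv
          have hb2 : (2 : F) • b = 0 := by
            rw [two_smul]
            have h3 := add_left_cancel hv
            nth_rewrite 1 [← h3]
            exact neg_add_cancel b
          have hb0 : b = 0 := (smul_eq_zero.1 hb2).resolve_left h2
          rw [hb0, add_zero]
          exact ha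
        · intro hv
          exact hyCt v hv
      have hfixx : ∀ v, (Q v = 1 ∧ (X : (Unit ⊕ (Fin n ⊕ Fin n) → F) ≃ₗ[F] (Unit ⊕ (Fin n ⊕ Fin n) → F)) v = v) ↔
          (Q v = 1 ∧ v ∈ C) := by
        intro v
        refine and_congr_right fun _ => ?_
        rw [hXx, hC, LinearMap.mem_ker, LinearMap.sub_apply, Module.End.one_apply, sub_eq_zero]
      have hnd' : (QuadraticMap.polarBilin Q).Nondegenerate := by rw [hQ]; exact quadOdd_nondegenerate h2
      obtain ⟨a, ha⟩ := four_dvd_moved h2 Q hnd' (by simp; omega) Y hymem hyG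
      have hmod := prime_dvd_moved Q hr X hxG
      rw [Nat.card_congr (Equiv.subtypeEquivRight hfixy)] at ha
      rw [Nat.card_congr (Equiv.subtypeEquivRight hfixx)] at hmod
      have hcount : Nat.card {v : Unit ⊕ (Fin n ⊕ Fin n) → F // Q v = 1} =
          Fintype.card F ^ (2 * n) + Fintype.card F ^ n := by
        rw [← card_norm_one h2 n, hQ, ← coe_quadOdd]
      rw [hcount] at ha hmod
      have hodd : Odd (Fintype.card F) := by
        rw [← Nat.not_even_iff_odd]
        intro he
        have := (FiniteField.even_card_iff_char_two (F := F)).2 (Nat.even_iff.1 he)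
        apply h2
        have h3 := ringChar.Nat.cast_ringChar (R := F)
        rw [this] at h3
        exact_mod_cast h3
      have hrq : ¬ r ∣ Fintype.card F := by
        intro h
        apply hrF
        obtain ⟨d, hd⟩ := h
        obtain ⟨p, hp⟩ := CharP.exists F
        obtain ⟨m, hp', hm⟩ := FiniteField.card F p
        have hrp : r = p := by
          have : r ∣ p ^ (m : ℕ) := by rw [← hm]; exact ⟨d, hd⟩
          exact (Nat.prime_dvd_prime_iff_eq hr hp').1 (hr.dvd_of_dvd_pow this)
        rw [hrp]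
        exact CharP.cast_eq_zero F p
      have h2n : Fintype.card F ^ (2 * n) ≡ 1 [MOD r] := by
        have hk : orderOf ((Nat.card F : ℕ) : ZMod r) ∣ 2 * n := by
          rw [← hMf]
          exact dvd_finrank_of_fpf hr xM hxM1 hfpf
        rw [← ZMod.natCast_eq_natCast_iff, Nat.cast_pow, Nat.cast_one, ← Nat.card_eq_fintype_card]
        exact orderOf_dvd_iff_pow_eq_one.1 hk
      exact exists_psp_of_torus h2 hn hr.pos
        (arith_count hodd hr hr2 hrq (card_line h2 Q C hC1) ha hmod h2n)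
    · -- `y` is a noncentral involution
      refine exists_psp hn (quadSym QM xM r) halt hnd hMf (xM * yM) ?_ (2 * r) ?_
      · intro v w
        rw [Module.End.mul_apply, Module.End.mul_apply, hxMB, hyMB]
      · intro j
        have hmul : ∀ j, (xM * yM) ^ j = xM ^ j * yM ^ j := fun j => hcM.mul_pow j
        have hev : ∀ j, Even j → yM ^ j = 1 := by
          rintro j ⟨i, rfl⟩
          rw [← two_mul, pow_mul, hyM1, one_pow]
        constructor
        · intro hj
          have hsq : (xM * yM) ^ (2 * j) = 1 := by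
            rw [mul_comm, pow_mul]
            rcases hj with h | h
            · rw [h, one_pow]
            · rw [h]; exact even_neg_one_pow_end even_two
          rw [hmul, hev (2 * j) (even_two_mul j), mul_one, hxj] at hsq
          have hrj : r ∣ j := Nat.Coprime.dvd_of_dvd_mul_left hcop.symm hsq
          rw [hmul, (hxj j).2 hrj, one_mul] at hj
          have hevj : Even j := by
            by_contra hodd
            rw [Nat.not_even_iff_odd] at hodd
            obtain ⟨i, rfl⟩ := hodd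
            rw [pow_succ, pow_mul, hyM1, one_pow, one_mul] at hj
            rcases hj with h | h
            · exact h1 h
            · exact h1' h
          exact hcop.mul_dvd_of_dvd_of_dvd hevj.two_dvd hrj
        · intro hj
          left
          rw [hmul, (hxj j).2 ((Dvd.intro_left _ rfl).trans hj),
            hev j (even_iff_two_dvd.2 ((Dvd.intro _ rfl).trans hj)), one_mul]
  · -- `c ≥ 1`
    have : Nonempty (Fin c) := ⟨⟨0, hc0⟩⟩
    refine exists_psp_sum hn (quadSym QM xM r) halt hnd hc1 xM (-1) hxMB ?_ ?_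
    · intro v w
      rw [LinearMap.neg_apply, LinearMap.neg_apply, Module.End.one_apply, Module.End.one_apply, map_neg, map_neg,
        LinearMap.neg_apply, neg_neg]
    · intro j
      constructor
      · rintro (⟨h3, h4⟩ | ⟨h3, -⟩)
        · have hevj : Even j := by
            by_contra hodd
            rw [Nat.not_even_iff_odd] at hodd
            rw [odd_neg_one_pow_end hodd] at h4
            exact neg_one_ne_one_end h2 h4
          exact hcop.mul_dvd_of_dvd_of_dvd hevj.two_dvd ((hxj j).1 h3)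
        · exact (pow_eq_neg_one_false h2 hrodd hxM1 j h3).elim
      · intro hj
        left
        exact ⟨(hxj j).2 ((Dvd.intro_left _ rfl).trans hj),
          even_neg_one_pow_end (even_iff_two_dvd.2 ((Dvd.intro _ rfl).trans hj))⟩

end Cfsg.Agent.H150
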