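import Mathlib
import Cfsg.Agent.H150.SpOmegaTwo

/-!
# Linear algebra for the non-adjacency of `2` and a primitive prime (helper150)

* `exists_invariant` : an `x`-invariant subspace of dimension `k = ord(q mod r)`;
* `even_of_form` : a nondegenerate symmetric or alternating space with an isometry of odd order without fixed vectors
  has even dimension;
* `irr_pow` : an isometry commuting with an irreducible isometry `x`, `x⁻¹ = x^(q^m)`, satisfies `y^(q^m) y = 1`;
* `irr_two`, `odd_two` : `y ^ 2 = ±1` and `y x = x y` imply `y = ±1`.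
-/

set_option autoImplicit false
set_option linter.style.haveILetI false

namespace Cfsg.Agent.H150

open Module Polynomial

variable {F : Type*} [Field F] {V : Type*} [AddCommGroup V] [Module F V]

theorem pow_card_pow_eq_self [Finite F] {r : ℕ} {x : V →ₗ[F] V} (hx : x ^ r = 1) {k : ℕ}
    (hk : Nat.card F ^ k ≡ 1 [MOD r]) : x ^ (Nat.card F ^ k) = x := by
  have hone : 1 ≤ Nat.card F ^ k := Nat.one_le_pow _ _ Nat.card_pos
  obtain ⟨m, hm⟩ := (Nat.modEq_iff_dvd' hone).1 hk.symm
  have : Nat.card F ^ k = r * m + 1 := by omega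
  rw [this, pow_succ, pow_mul, hx, one_pow, one_mul]

omit [Field F] in
theorem pow_orderOf_modEq [Finite F] {r : ℕ} :
    Nat.card F ^ orderOf ((Nat.card F : ℕ) : ZMod r) ≡ 1 [MOD r] := by
  rw [← ZMod.natCast_eq_natCast_iff, Nat.cast_pow, Nat.cast_one]
  exact pow_orderOf_eq_one _

theorem orderOf_card_pos [Finite F] {r : ℕ} (hr : r.Prime) (hrF : (r : F) ≠ 0) :
    0 < orderOf ((Nat.card F : ℕ) : ZMod r) := by
  have : Fact r.Prime := ⟨hr⟩
  have hne : ((Nat.card F : ℕ) : ZMod r) ≠ 0 := by
    rw [Ne, ZMod.natCast_eq_zero_iff]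
    intro h
    apply hrF
    haveI : Fintype F := Fintype.ofFinite F
    rw [Nat.card_eq_fintype_card] at h
    obtain ⟨p, hp⟩ := CharP.exists F
    obtain ⟨m, hp', hm⟩ := FiniteField.card F p
    have hrp : r = p := by
      rw [hm] at h
      exact (Nat.prime_dvd_prime_iff_eq hr hp').1 (hr.dvd_of_dvd_pow h)
    rw [hrp]
    exact CharP.cast_eq_zero F p
  have hu : IsUnit ((Nat.card F : ℕ) : ZMod r) := isUnit_iff_ne_zero.2 hne
  obtain ⟨u, hu⟩ := hu
  rw [← hu, orderOf_units]
  exact orderOf_pos u

/-- **an invariant subspace of dimension the order of `q` modulo `r`** -/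
theorem exists_invariant [Finite F] [FiniteDimensional F V] [Nontrivial V] {r : ℕ} (hr : r.Prime)
    (hrF : (r : F) ≠ 0) (x : V →ₗ[F] V) (hx : x ^ r = 1) (hf : ∀ v, x v = v → v = 0) :
    ∃ U : Submodule F V, (∀ u ∈ U, x u ∈ U) ∧ finrank F U = orderOf ((Nat.card F : ℕ) : ZMod r) := by
  set k := orderOf ((Nat.card F : ℕ) : ZMod r) with hk
  have hkpos : 0 < k := orderOf_card_pos hr hrF
  have hq : x ^ (Nat.card F ^ k) = x := pow_card_pow_eq_self hx pow_orderOf_modEq
  have hint : IsIntegral F x := Algebra.IsIntegral.isIntegral x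
  obtain ⟨f, hfm, hfi, hfd⟩ := Polynomial.exists_monic_irreducible_factor (minpoly F x) (minpoly.not_isUnit F x)
  have hdk : f.natDegree ∣ k := by
    refine hfi.natDegree_dvd_of_dvd_X_pow_card_pow_sub_X (hfd.trans (minpoly.dvd F x ?_))
    rw [map_sub, map_pow, aeval_X, hq, sub_self]
  obtain ⟨g, hg⟩ := hfd
  have hg0 : g ≠ 0 := by
    rintro rfl
    rw [mul_zero] at hg
    exact minpoly.ne_zero hint hg
  have hgx : aeval x g ≠ 0 := by
    intro h
    obtain ⟨h', hh'⟩ := minpoly.dvd F x h
    have h1 : g * 1 = g * (f * h') := by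
      rw [mul_one]
      calc g = minpoly F x * h' := hh'
        _ = g * (f * h') := by rw [hg]; ring
    have h2 := mul_left_cancel₀ hg0 h1
    exact hfi.not_isUnit (IsUnit.of_mul_eq_one _ h2.symm)
  obtain ⟨v, hv⟩ : ∃ v, (aeval x g) v ≠ 0 := by
    by_contra hcon
    push Not at hcon
    exact hgx (LinearMap.ext hcon)
  set u := (aeval x g) v with hu
  have hfu : (aeval x f) u = 0 := by
    have h1 : (aeval x (f * g)) v = 0 := by rw [← hg, minpoly.aeval]; rfl
    rw [map_mul] at h1
    exact h1
  -- the cyclic submodule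
  let φ : F[X] →ₗ[F] V := (LinearMap.applyₗ u) ∘ₗ (aeval x : F[X] →ₐ[F] Module.End F V).toLinearMap
  have hφ : ∀ p, φ p = (aeval x p) u := fun p => rfl
  have hrange : LinearMap.range φ = Submodule.map φ (Polynomial.degreeLT F f.natDegree) := by
    apply le_antisymm
    · rintro _ ⟨p, rfl⟩
      refine ⟨p %ₘ f, ?_, ?_⟩
      · rw [SetLike.mem_coe, Polynomial.mem_degreeLT]
        have := Polynomial.degree_modByMonic_lt p hfm
        rwa [Polynomial.degree_eq_natDegree hfm.ne_zero] at this
      · rw [hφ, hφ]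
        have h1 := congrArg (fun p => (aeval x p) u) (Polynomial.modByMonic_add_div p f)
        have h2 : (aeval x (p %ₘ f + f * (p /ₘ f))) u = (aeval x p) u := h1
        rw [map_add, mul_comm f, map_mul, LinearMap.add_apply, Module.End.mul_apply, hfu, map_zero, add_zero] at h2
        exact h2
    · rintro _ ⟨p, -, rfl⟩
      exact ⟨p, rfl⟩
  have hinv : ∀ w ∈ LinearMap.range φ, x w ∈ LinearMap.range φ := by
    rintro _ ⟨p, rfl⟩
    refine ⟨X * p, ?_⟩
    rw [hφ, hφ, map_mul, aeval_X]
    rfl
  have huU : u ∈ LinearMap.range φ := ⟨1, by rw [hφ, map_one]; rfl⟩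
  refine ⟨LinearMap.range φ, hinv, ?_⟩
  have h1 := dvd_finrank_of_fpf_submodule hr x hx _ hinv (fun v _ h => hf v h)
  have h2 : finrank F (LinearMap.range φ) ≤ f.natDegree := by
    rw [hrange]
    haveI : Module.Finite F (Polynomial.degreeLT F f.natDegree) :=
      Module.Finite.equiv (Polynomial.degreeLTEquiv F f.natDegree).symm
    refine (Submodule.finrank_map_le φ _).trans ?_
    rw [(Polynomial.degreeLTEquiv F f.natDegree).finrank_eq]
    simp
  have h3 : 0 < finrank F (LinearMap.range φ) := by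
    rw [Module.finrank_pos_iff]
    exact ⟨⟨⟨u, huU⟩, 0, fun h => hv (congrArg Subtype.val h)⟩⟩
  exact le_antisymm (h2.trans (Nat.le_of_dvd hkpos hdk)) (Nat.le_of_dvd h3 h1)

/-- **evenness of the dimension** -/
theorem even_of_form [FiniteDimensional F V] (h2 : (2 : F) ≠ 0) (B : LinearMap.BilinForm F V) {ε : F}
    (hε : ε = 1 ∨ ε = -1) (hsym : ∀ v w, B w v = ε * B v w) (hnd : ∀ u, (∀ v, B u v = 0) → u = 0)
    {r : ℕ} (hr : Odd r) (x : V →ₗ[F] V) (hx : x ^ r = 1) (hf : ∀ v, x v = v → v = 0)
    (hxB : ∀ v w, B (x v) (x w) = B v w) : Even (finrank F V) := by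
  rcases hε with rfl | rfl
  · let Q : QuadraticForm F V := LinearMap.BilinMap.toQuadraticMap B
    have hQ : ∀ v, Q v = B v v := fun v => rfl
    have hp : ∀ v w, QuadraticMap.polar Q v w = 2 * B v w := by
      intro v w
      rw [QuadraticMap.polar, hQ, hQ, hQ]
      simp only [map_add, LinearMap.add_apply]
      rw [hsym v w]
      ring
    have hQnd : ∀ u, (∀ v, QuadraticMap.polar Q u v = 0) → u = 0 := by
      intro u hu
      apply hnd
      intro v
      have := hu v
      rw [hp] at this
      exact (mul_eq_zero.1 this).resolve_left h2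
    have hxQ : ∀ v, Q (x v) = Q v := fun v => hxB v v
    exact even_finrank_of_alt (quadSym Q x r) (quadSym_alt Q hr.pos x hxQ hx)
      (fun u hu => quadSym_nd Q hQnd hr x hx hf u hu)
  · refine even_finrank_of_alt B (fun v => ?_) hnd
    have h1 := hsym v v
    have h3 : 2 * B v v = 0 := by linear_combination h1
    exact (mul_eq_zero.1 h3).resolve_left h2

/-- submodule version -/
theorem even_of_form_submodule [FiniteDimensional F V] (h2 : (2 : F) ≠ 0) (B : LinearMap.BilinForm F V) {ε : F}
    (hε : ε = 1 ∨ ε = -1) (hsym : ∀ v w, B w v = ε * B v w)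
    {r : ℕ} (hr : Odd r) (x : V →ₗ[F] V) (hx : x ^ r = 1) (hf : ∀ v, x v = v → v = 0)
    (hxB : ∀ v w, B (x v) (x w) = B v w) (U : Submodule F V) (hU : ∀ u ∈ U, x u ∈ U)
    (hnd : ∀ u ∈ U, (∀ v ∈ U, B u v = 0) → u = 0) : Even (finrank F U) := by
  refine even_of_form h2 (B.restrict U) hε (fun v w => hsym v w) ?_ hr (x.restrict hU)
    (restrict_pow_eq_one hU hx) ?_ (fun v w => hxB v w)
  · intro u hu
    exact Subtype.ext (hnd u u.2 fun v hv => hu ⟨v, hv⟩)
  · intro v hv
    exact Subtype.ext (hf v (congrArg Subtype.val hv))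

theorem expand_card_pow [Finite F] (f : F[X]) (m : ℕ) : expand F (Nat.card F ^ m) f = f ^ (Nat.card F ^ m) := by
  haveI : Fintype F := Fintype.ofFinite F
  induction m with
  | zero => rw [pow_zero, expand_one, pow_one]
  | succ m ih =>
    rw [pow_succ', ← expand_expand, ih, map_pow, Nat.card_eq_fintype_card, FiniteField.expand_card, ← pow_mul]

theorem aeval_pow_card_pow [Finite F] (x : V →ₗ[F] V) (f : F[X]) (m : ℕ) :
    aeval (x ^ (Nat.card F ^ m)) f = (aeval x f) ^ (Nat.card F ^ m) := by
  rw [← map_pow, ← expand_card_pow, expand_aeval]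

theorem adjoint_aeval (B : LinearMap.BilinForm F V) (x x' : V →ₗ[F] V) (h : ∀ v w, B (x v) w = B v (x' w))
    (p : F[X]) (v w : V) : B ((aeval x p) v) w = B v ((aeval x' p) w) := by
  have hpow : ∀ (n : ℕ) v w, B ((x ^ n) v) w = B v ((x' ^ n) w) := by
    intro n
    induction n with
    | zero => intro v w; rfl
    | succ n ih =>
      intro v w
      rw [pow_succ, pow_succ', Module.End.mul_apply, Module.End.mul_apply, ih, h]
  induction p using Polynomial.induction_on' with
  | add p q hp hq =>
    rw [map_add, map_add, LinearMap.add_apply, LinearMap.add_apply, map_add, map_add, LinearMap.add_apply, hp, hq]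
  | monomial n a =>
    rw [aeval_monomial, aeval_monomial, Module.End.mul_apply, Module.End.mul_apply,
      Module.algebraMap_end_apply, Module.algebraMap_end_apply, map_smul, map_smul, LinearMap.smul_apply, hpow]

/-- an endomorphism commuting with an irreducible one is a polynomial in it -/
theorem exists_aeval_eq [Nontrivial V] (x y : V →ₗ[F] V) (hcomm : Commute x y)
    (hirr : ∀ W : Submodule F V, (∀ w ∈ W, x w ∈ W) → W = ⊥ ∨ W = ⊤) : ∃ f : F[X], y = aeval x f := by
  obtain ⟨v, hv⟩ := exists_ne (0 : V)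
  let φ : F[X] →ₗ[F] V := (LinearMap.applyₗ v) ∘ₗ (aeval x : F[X] →ₐ[F] Module.End F V).toLinearMap
  have hφ : ∀ p, φ p = (aeval x p) v := fun p => rfl
  have hinv : ∀ w ∈ LinearMap.range φ, x w ∈ LinearMap.range φ := by
    rintro _ ⟨p, rfl⟩
    refine ⟨X * p, ?_⟩
    rw [hφ, hφ, map_mul, aeval_X]
    rfl
  have htop : LinearMap.range φ = ⊤ := by
    refine (hirr _ hinv).resolve_left fun h => hv ?_
    have h1 : v ∈ LinearMap.range φ := ⟨1, by rw [hφ, map_one]; rfl⟩
    rw [h] at h1
    exact (Submodule.mem_bot F).1 h1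
  obtain ⟨f, hf⟩ : y v ∈ LinearMap.range φ := by rw [htop]; trivial
  refine ⟨f, LinearMap.ext fun w => ?_⟩
  obtain ⟨g, rfl⟩ : w ∈ LinearMap.range φ := by rw [htop]; trivial
  have hyg : y * aeval x g = aeval x g * y := by
    have : Commute y (aeval x g) := by
      induction g using Polynomial.induction_on' with
      | add p q hp hq => rw [map_add]; exact hp.add_right hq
      | monomial n a =>
        rw [aeval_monomial]
        exact (Algebra.commute_algebraMap_right a y).mul_right (hcomm.symm.pow_right n)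
    exact this.eq
  rw [hφ]
  calc y ((aeval x g) v) = (y * aeval x g) v := rfl
    _ = (aeval x g) (y v) := by rw [hyg]; rfl
    _ = (aeval x g) ((aeval x f) v) := by rw [← hf, hφ]
    _ = (aeval x g * aeval x f) v := rfl
    _ = (aeval x f * aeval x g) v := by rw [← map_mul, mul_comm, map_mul]
    _ = _ := rfl

/-- **isometries commuting with an irreducible isometry** -/
theorem irr_pow [Finite F] [Nontrivial V] (B : LinearMap.BilinForm F V)
    (hnd : ∀ u, (∀ v, B v u = 0) → u = 0) {r : ℕ} (hr : 0 < r) (x y : V →ₗ[F] V) (hcomm : Commute x y)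
    (hirr : ∀ W : Submodule F V, (∀ w ∈ W, x w ∈ W) → W = ⊥ ∨ W = ⊤) (hx : x ^ r = 1)
    (hxB : ∀ v w, B (x v) (x w) = B v w) (hyB : ∀ v w, B (y v) (y w) = B v w) {m : ℕ}
    (hm : r ∣ Nat.card F ^ m + 1) : y ^ (Nat.card F ^ m + 1) = 1 := by
  obtain ⟨f, hf⟩ := exists_aeval_eq x y hcomm hirr
  have hx' : x ^ (Nat.card F ^ m) = x ^ (r - 1) := by
    obtain ⟨a, ha⟩ := hm
    have ha0 : a ≠ 0 := by
      rintro rfl
      omega
    obtain ⟨b, rfl⟩ := Nat.exists_eq_succ_of_ne_zero ha0
    have h1 : Nat.card F ^ m = r * b + (r - 1) := by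
      have : r * (b + 1) = r * b + r := by ring
      have h3 := ha
      rw [Nat.succ_eq_add_one, this] at h3
      omega
    rw [h1, pow_add, pow_mul, hx, one_pow, one_mul]
  have hadj : ∀ v w, B (y v) w = B v ((y ^ (Nat.card F ^ m)) w) := by
    intro v w
    rw [hf, ← aeval_pow_card_pow, hx']
    refine adjoint_aeval B x _ (fun v w => ?_) f v w
    rw [← hxB v, mul_pow_sub_one hr hx]
  rw [pow_succ]
  apply LinearMap.ext
  intro w
  have h1 : ∀ v, B v ((y ^ (Nat.card F ^ m)) (y w) - w) = 0 := by
    intro v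
    rw [map_sub, ← hadj, hyB, sub_self]
  exact sub_eq_zero.1 (hnd _ h1)

/-- `y ^ 2 = -1` is impossible if `q ^ m ≡ 1` modulo 4 -/
theorem irr_sq_ne_neg_one [Finite F] [Nontrivial V] (h2 : (2 : F) ≠ 0) (B : LinearMap.BilinForm F V)
    (hnd : ∀ u, (∀ v, B v u = 0) → u = 0) {r : ℕ} (hr : 0 < r) (x y : V →ₗ[F] V) (hcomm : Commute x y)
    (hirr : ∀ W : Submodule F V, (∀ w ∈ W, x w ∈ W) → W = ⊥ ∨ W = ⊤) (hx : x ^ r = 1)
    (hxB : ∀ v w, B (x v) (x w) = B v w) (hyB : ∀ v w, B (y v) (y w) = B v w) {m : ℕ}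
    (hm : r ∣ Nat.card F ^ m + 1) (hm4 : Nat.card F ^ m % 4 = 1) : y ^ 2 ≠ -1 := by
  intro hy
  have h1 := irr_pow B hnd hr x y hcomm hirr hx hxB hyB hm
  obtain ⟨a, ha⟩ : ∃ a, Nat.card F ^ m + 1 = 2 * (2 * a + 1) := ⟨Nat.card F ^ m / 4, by omega⟩
  rw [ha, pow_mul, hy, odd_neg_one_pow_end ⟨a, rfl⟩] at h1
  exact neg_one_ne_one_end h2 h1

theorem irr_eq_one_or [Nontrivial V] (x y : V →ₗ[F] V) (hcomm : Commute x y)
    (hirr : ∀ W : Submodule F V, (∀ w ∈ W, x w ∈ W) → W = ⊥ ∨ W = ⊤) {a : F} (hy : y ^ 2 = (a ^ 2) • (1 : Module.End F V)) :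
    y = a • (1 : Module.End F V) ∨ y = (-a) • (1 : Module.End F V) := by
  have hxy : ∀ v, x (y v) = y (x v) := fun v => LinearMap.congr_fun hcomm.eq v
  have hinv : ∀ w ∈ LinearMap.ker (y - a • (1 : Module.End F V)), x w ∈ LinearMap.ker (y - a • (1 : Module.End F V)) := by
    intro w hw
    rw [LinearMap.mem_ker, LinearMap.sub_apply, LinearMap.smul_apply, Module.End.one_apply, sub_eq_zero] at hw ⊢
    rw [← hxy, hw, map_smul]
  rcases hirr _ hinv with h | h
  · right
    apply LinearMap.ext
    intro v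
    have h1 : y v + a • v ∈ LinearMap.ker (y - a • (1 : Module.End F V)) := by
      rw [LinearMap.mem_ker, LinearMap.sub_apply, LinearMap.smul_apply, Module.End.one_apply, map_add, map_smul]
      have h3 : y (y v) = a ^ 2 • v := LinearMap.congr_fun hy v
      rw [h3, smul_add, smul_smul, pow_two]
      abel
    rw [h, Submodule.mem_bot] at h1
    rw [LinearMap.smul_apply, Module.End.one_apply, neg_smul]
    exact eq_neg_of_add_eq_zero_left h1
  · left
    apply LinearMap.ext
    intro v
    have h1 : v ∈ LinearMap.ker (y - a • (1 : Module.End F V)) := by rw [h]; trivial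
    rw [LinearMap.mem_ker, LinearMap.sub_apply, sub_eq_zero] at h1
    exact h1

theorem irr_eq_one_or_neg_one [Nontrivial V] (x y : V →ₗ[F] V) (hcomm : Commute x y)
    (hirr : ∀ W : Submodule F V, (∀ w ∈ W, x w ∈ W) → W = ⊥ ∨ W = ⊤) (hy : y ^ 2 = 1) : y = 1 ∨ y = -1 := by
  rcases irr_eq_one_or x y hcomm hirr (a := 1) (by rw [one_pow, one_smul, hy]) with h | h
  · left; rw [h, one_smul]
  · right
    rw [h]
    exact LinearMap.ext fun v => by
      rw [LinearMap.smul_apply, LinearMap.neg_apply, Module.End.one_apply, neg_smul, one_smul]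

/-- `x` irreducible from the dimension -/
theorem irr_of_dvd [Finite F] [FiniteDimensional F V] {r : ℕ} (hr : r.Prime) (x : V →ₗ[F] V) (hx : x ^ r = 1)
    (hf : ∀ v, x v = v → v = 0) (hk : finrank F V ≤ orderOf ((Nat.card F : ℕ) : ZMod r)) (W : Submodule F V)
    (hW : ∀ w ∈ W, x w ∈ W) : W = ⊥ ∨ W = ⊤ := by
  have h1 := dvd_finrank_of_fpf_submodule hr x hx W hW (fun v _ h => hf v h)
  rcases Nat.eq_zero_or_pos (finrank F W) with h | h
  · left
    exact Submodule.finrank_eq_zero.1 h
  · right
    exact Submodule.eq_top_of_finrank_eq (le_antisymm (Submodule.finrank_le W) (hk.trans (Nat.le_of_dvd h h1)))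

/-- **the odd case** -/
theorem odd_two [Finite F] [FiniteDimensional F V] [Nontrivial V] (h2 : (2 : F) ≠ 0) (hns : ∀ a : F, a ^ 2 ≠ -1)
    (B : LinearMap.BilinForm F V) {ε : F}
    (hε : ε = 1 ∨ ε = -1) (hsym : ∀ v w, B w v = ε * B v w) (hnd : ∀ u, (∀ v, B u v = 0) → u = 0)
    {r : ℕ} (hr : r.Prime) (hr2 : r ≠ 2) (hrF : (r : F) ≠ 0)
    (x y : V →ₗ[F] V) (hcomm : Commute x y) (hx : x ^ r = 1) (hf : ∀ v, x v = v → v = 0)
    (hxB : ∀ v w, B (x v) (x w) = B v w) (hyB : ∀ v w, B (y v) (y w) = B v w)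
    (hk : Odd (orderOf ((Nat.card F : ℕ) : ZMod r)))
    (hdim : finrank F V = 2 * orderOf ((Nat.card F : ℕ) : ZMod r))
    (hy : y ^ 2 = 1 ∨ y ^ 2 = -1) : y = 1 ∨ y = -1 := by
  set k := orderOf ((Nat.card F : ℕ) : ZMod r) with hkdef
  have hrodd : Odd r := hr.odd_of_ne_two hr2
  have hxy : ∀ v, x (y v) = y (x v) := fun v => LinearMap.congr_fun hcomm.eq v
  have hkpos : 0 < k := orderOf_card_pos hr hrF
  -- invariant subspaces have dimension divisible by `k`
  have hdvd : ∀ W : Submodule F V, (∀ w ∈ W, x w ∈ W) → k ∣ finrank F W := fun W hW =>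
    dvd_finrank_of_fpf_submodule hr x hx W hW (fun v _ h => hf v h)
  rcases hy with hy | hy
  · -- `y ^ 2 = 1`
    have hyy : ∀ v, y (y v) = v := fun v => LinearMap.congr_fun hy v
    set P := LinearMap.ker (y - 1) with hP
    have hPm : ∀ v, v ∈ P ↔ y v = v := fun v => by
      rw [hP, LinearMap.mem_ker, LinearMap.sub_apply, Module.End.one_apply, sub_eq_zero]
    have hinv : ∀ w ∈ P, x w ∈ P := by
      intro w hw
      rw [hPm] at hw ⊢
      rw [← hxy, hw]
    have hev : Even (finrank F P) := by
      refine even_of_form_submodule h2 B hε hsym hrodd x hx hf hxB P hinv ?_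
      intro u hu h
      apply hnd
      intro v
      -- `v = (v + y v)/2 + (v - y v)/2`
      have h1 : B u (v + y v) = 0 := h _ ((hPm _).2 (by rw [map_add, hyy, add_comm]))
      have h3 : B u (y v) = B u v := by
        have := hyB u v
        rwa [(hPm u).1 hu] at this
      rw [map_add, h3] at h1
      have h4 : 2 * B u v = 0 := by rw [two_mul]; exact h1
      exact (mul_eq_zero.1 h4).resolve_left h2
    have h2k : 2 * k ∣ finrank F P :=
      Nat.Coprime.mul_dvd_of_dvd_of_dvd (Nat.coprime_two_left.2 hk) hev.two_dvd (hdvd P hinv)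
    rcases Nat.eq_zero_or_pos (finrank F P) with h0 | h0
    · right
      have hbot : P = ⊥ := Submodule.finrank_eq_zero.1 h0
      apply LinearMap.ext
      intro v
      have h1 : v + y v ∈ P := (hPm _).2 (by rw [map_add, hyy, add_comm])
      rw [hbot, Submodule.mem_bot] at h1
      rw [LinearMap.neg_apply, Module.End.one_apply]
      exact eq_neg_of_add_eq_zero_right h1
    · left
      have htop : P = ⊤ := Submodule.eq_top_of_finrank_eq (le_antisymm (Submodule.finrank_le P)
        (by rw [hdim]; exact Nat.le_of_dvd h0 h2k))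
      apply LinearMap.ext
      intro v
      exact (hPm v).1 (by rw [htop]; trivial)
  · -- `y ^ 2 = -1`
    exfalso
    have hyy : ∀ v, y (y v) = -v := fun v => LinearMap.congr_fun hy v
    obtain ⟨U, hUinv, hUk⟩ := exists_invariant hr hrF x hx hf
    rw [← hkdef] at hUk
    have hU0 : U ≠ ⊥ := by
      rintro rfl
      rw [finrank_bot] at hUk
      omega
    -- `y U`
    set U' := U.map y with hU'
    have hU'inv : ∀ w ∈ U', x w ∈ U' := by
      rintro _ ⟨u, hu, rfl⟩
      exact ⟨x u, hUinv u hu, (hxy u).symm⟩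
    have hyinj : Function.Injective y := by
      intro a b hab
      have := congrArg y hab
      rw [hyy, hyy] at this
      exact neg_injective this
    have hU'k : finrank F U' = k := by
      rw [← hUk]
      exact (Submodule.equivMapOfInjective y hyinj U).finrank_eq.symm
    have hcap : U ⊓ U' = ⊥ := by
      have h1 := hdvd (U ⊓ U') (fun w hw => ⟨hUinv w hw.1, hU'inv w hw.2⟩)
      rcases Nat.eq_zero_or_pos (finrank F (U ⊓ U' : Submodule F V)) with h0 | h0
      · exact Submodule.finrank_eq_zero.1 h0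
      · exfalso
        have h3 := Nat.le_of_dvd h0 h1
        have h4 : U ⊓ U' = U := Submodule.eq_of_le_of_finrank_le inf_le_left (by rw [hUk]; exact h3)
        have h5 : U ⊓ U' = U' := Submodule.eq_of_le_of_finrank_le inf_le_right (by rw [hU'k]; exact h3)
        have h6 : U' = U := h5.symm.trans h4
        have hyU : ∀ u ∈ U, y u ∈ U := fun u hu => by rw [← h6]; exact ⟨u, hu, rfl⟩
        have h7 : (y.restrict hyU) ^ 2 = -1 := by
          apply LinearMap.ext
          intro v
          apply Subtype.ext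
          exact hyy v
        have h8 := congrArg LinearMap.det h7
        rw [map_pow] at h8
        have h9 : LinearMap.det (-1 : U →ₗ[F] U) = -1 := by
          have e1 : (-1 : U →ₗ[F] U) = (-1 : F) • (1 : Module.End F U) := LinearMap.ext fun v => by
            rw [LinearMap.smul_apply, LinearMap.neg_apply, Module.End.one_apply, neg_smul, one_smul]
          have e2 : LinearMap.det (1 : Module.End F U) = 1 := LinearMap.det_id
          rw [e1, LinearMap.det_smul, hUk, hk.neg_one_pow, e2, mul_one]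
        rw [h9] at h8
        exact hns _ h8
    have hsup : U ⊔ U' = ⊤ := by
      apply Submodule.eq_top_of_finrank_eq
      have := Submodule.finrank_sup_add_finrank_inf_eq U U'
      rw [hcap, finrank_bot, hUk, hU'k] at this
      omega
    -- `U` is totally isotropic
    have hiso : ∀ u ∈ U, ∀ v ∈ U, B u v = 0 := by
      let R : Submodule F V :=
        { carrier := {u | u ∈ U ∧ ∀ v ∈ U, B u v = 0}
          add_mem' := by
            rintro a b ⟨ha, ha'⟩ ⟨hb, hb'⟩
            exact ⟨U.add_mem ha hb, fun v hv => by rw [map_add, LinearMap.add_apply, ha' v hv, hb' v hv, add_zero]⟩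
          zero_mem' := ⟨U.zero_mem, fun v _ => by rw [map_zero]; rfl⟩
          smul_mem' := by
            rintro c a ⟨ha, ha'⟩
            exact ⟨U.smul_mem c ha, fun v hv => by rw [map_smul, LinearMap.smul_apply, ha' v hv, smul_zero]⟩ }
      have hRinv : ∀ w ∈ R, x w ∈ R := by
        rintro w ⟨hw, hw'⟩
        refine ⟨hUinv w hw, fun v hv => ?_⟩
        have hxr : x ((x ^ (r - 1)) v) = v := mul_pow_sub_one hr.pos hx v
        have hmem : ∀ (j : ℕ), (x ^ j) v ∈ U := by
          intro j
          induction j with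
          | zero => exact hv
          | succ j ih => rw [pow_succ']; exact hUinv _ ih
        rw [← hxr, hxB]
        exact hw' _ (hmem _)
      have hRU : R ≤ U := fun u hu => hu.1
      have h1 := hdvd R hRinv
      rcases Nat.eq_zero_or_pos (finrank F R) with h0 | h0
      · exfalso
        have hR0 : R = ⊥ := Submodule.finrank_eq_zero.1 h0
        have := even_of_form_submodule h2 B hε hsym hrodd x hx hf hxB U hUinv (fun u hu h => by
          have : u ∈ R := ⟨hu, h⟩
          rw [hR0] at this
          exact (Submodule.mem_bot F).1 this)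
        rw [hUk] at this
        exact (Nat.not_even_iff_odd.2 hk) this
      · have h3 := Nat.le_of_dvd h0 h1
        have h4 : R = U := Submodule.eq_of_le_of_finrank_le hRU (by rw [hUk]; exact h3)
        intro u hu v hv
        have : u ∈ R := by rw [h4]; exact hu
        exact this.2 v hv
    -- the form `B u (y v)` on `U`
    let H : LinearMap.BilinForm F U := (LinearMap.BilinForm.compRight B y).restrict U
    have hH : ∀ u v : U, H u v = B u (y v) := fun u v => rfl
    have hHsym : ∀ v w : U, H w v = (-ε) * H v w := by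
      intro v w
      rw [hH, hH]
      have h1 : B (y w) (v : V) = - B w (y v) := by
        have := hyB w (y v)
        rw [hyy, map_neg] at this
        linear_combination -this
      have h3 := hsym (y w) v
      -- B v (y w) = ε B (y w) v
      rw [h1] at h3
      have hεε : ε * ε = 1 := by rcases hε with h | h <;> rw [h] <;> norm_num
      linear_combination ε * h3 - (B (w : V) (y v)) * hεε
    have hHnd : ∀ u : U, (∀ v : U, H u v = 0) → u = 0 := by
      intro u hu
      apply Subtype.ext
      apply hnd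
      intro v
      obtain ⟨a, ha, b, hb, rfl⟩ := Submodule.mem_sup.1 (show v ∈ U ⊔ U' by rw [hsup]; trivial)
      obtain ⟨c, hc, rfl⟩ := hb
      rw [map_add, hiso u u.2 a ha, zero_add]
      exact hu ⟨c, hc⟩
    have hε' : -ε = 1 ∨ -ε = -1 := by
      rcases hε with h | h
      · right; rw [h]
      · left; rw [h, neg_neg]
    have := even_of_form h2 H hε' hHsym hHnd hrodd (x.restrict hUinv) (restrict_pow_eq_one hUinv hx)
      (fun v hv => Subtype.ext (hf v (congrArg Subtype.val hv))) (fun v w => by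
        rw [hH, hH]
        show B (x v) (y (x w)) = B v (y w)
        rw [← hxy, hxB])
    rw [hUk] at this
    exact (Nat.not_even_iff_odd.2 hk) this

end Cfsg.Agent.H150
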