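import Mathlib
import Cfsg.Agent.H150.FarLin
import Cfsg.Agent.Lib.Zsigmondy
import Cfsg.Agent.S0245
import Cfsg.Agent.S0246
import Cfsg.Agent.S0292
import Cfsg.Agent.S2472
import Cfsg.Agent.S2474

/-!
# An odd prime not adjacent to `2` in the prime graph: `PSp_{2n}(q)` and `PΩ_{2n+1}(q)` (helper150)

`Far G` : some odd prime `r` divides `|G|` and `G` has no element of order `2 r`.
-/

set_option autoImplicit false
set_option linter.style.haveILetI false

namespace Cfsg.Agent.H150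

open Module Cfsg
open Cfsg.Agent.LieClassical.OrthCount Cfsg.Agent.LieClassical.OmegaReindex
open Cfsg.Agent.ClassicalGeometry.SympBasic Cfsg.Agent.ClassicalGeometry.SympIso

/-- some odd prime `r` divides `|G|` and `G` has no element of order `2 r` -/
def Far (G : Type*) [Group G] : Prop :=
  ∃ r : ℕ, r.Prime ∧ r ≠ 2 ∧ r ∣ Nat.card G ∧ ∀ g : G, orderOf g ≠ 2 * r

theorem Far.congr {G H : Type*} [Group G] [Group H] (e : G ≃* H) (h : Far G) : Far H := by
  obtain ⟨r, hr, hr2, hd, hg⟩ := h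
  refine ⟨r, hr, hr2, by rwa [← Nat.card_congr e.toEquiv], fun g hgo => hg (e.symm g) ?_⟩
  rw [MulEquiv.orderOf_eq, hgo]

variable {F : Type*} [Field F]

theorem natCast_ne_zero_of_not_dvd [Finite F] {r : ℕ} (hr : r.Prime) (h : ¬ r ∣ Nat.card F) : (r : F) ≠ 0 := by
  intro h0
  apply h
  haveI : Fintype F := Fintype.ofFinite F
  obtain ⟨p, hp⟩ := CharP.exists F
  obtain ⟨m, hp', hm⟩ := FiniteField.card F p
  have hrp : r = p := ((Nat.prime_dvd_prime_iff_eq hp' hr).1 ((CharP.cast_eq_zero_iff F p r).1 h0)).symm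
  rw [Nat.card_eq_fintype_card, hm, hrp]
  exact dvd_pow_self _ (PNat.ne_zero m)

theorem orderOf_eq_of_primitive {q n r : ℕ} (hq : 1 ≤ q) (h : ∀ m, r ∣ q ^ m - 1 ↔ n ∣ m) :
    orderOf ((q : ℕ) : ZMod r) = n := by
  apply Nat.dvd_antisymm
  · rw [← Cfsg.Agent.Lib.Zsigmondy.dvd_pow_sub_one_iff hq]
    exact (h n).2 dvd_rfl
  · rw [← h, Cfsg.Agent.Lib.Zsigmondy.dvd_pow_sub_one_iff hq]

theorem dvd_pow_add_one_of_primitive {q n r : ℕ} (hr : r.Prime) (hn : 1 ≤ n) (h : ∀ m, r ∣ q ^ m - 1 ↔ 2 * n ∣ m) :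
    r ∣ q ^ n + 1 := by
  have h1 := (h (2 * n)).2 dvd_rfl
  have h3 : q ^ (2 * n) - 1 = (q ^ n - 1) * (q ^ n + 1) := by
    have := Nat.sq_sub_sq (q ^ n) 1
    rw [one_pow] at this
    rw [mul_comm 2 n, pow_mul, this, mul_comm]
  rw [h3] at h1
  refine (hr.dvd_mul.1 h1).resolve_left fun h4 => ?_
  have := Nat.le_of_dvd hn ((h n).1 h4)
  omega

theorem dvd_card_quotient_center {G : Type*} [Group G] [Finite G] {r : ℕ} (hr : r.Prime) (h : r ∣ Nat.card G)
    (hz : ¬ r ∣ Nat.card (Subgroup.center G)) : r ∣ Nat.card (G ⧸ Subgroup.center G) := by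
  have h1 := (Subgroup.center G).card_eq_card_quotient_mul_card_subgroup
  rw [h1] at h
  exact (hr.dvd_mul.1 h).resolve_right hz

theorem dvd_card_psp [Fintype F] {r n : ℕ} (hn : 1 ≤ n) (hr : r.Prime) (hr2 : r ≠ 2)
    (h : r ∣ Nat.card (Matrix.symplecticGroup (Fin n) F)) : r ∣ Nat.card (PSp n F) := by
  refine dvd_card_quotient_center hr h ?_
  rw [Cfsg.Agent.S0246.result rfl n hn]
  intro h1
  exact hr2 ((Nat.prime_dvd_prime_iff_eq hr Nat.prime_two).1 (h1.trans (Nat.gcd_dvd_left _ _)))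

theorem isom_pow {V : Type*} [AddCommGroup V] [Module F V] (B : LinearMap.BilinForm F V)
    (T : V →ₗ[F] V) (hT : ∀ v w, B (T v) (T w) = B v w) (j : ℕ) (v w : V) :
    B ((T ^ j) v) ((T ^ j) w) = B v w := by
  induction j with
  | zero => rfl
  | succ j ih => rw [pow_succ', Module.End.mul_apply, Module.End.mul_apply, hT, ih]

/-- the abstract criterion -/
theorem psp_order_ne {n : ℕ} (hn : 1 ≤ n) {r : ℕ} (hr : r.Prime) (hr2 : r ≠ 2)
    (h : ∀ x y : (Fin n ⊕ Fin n → F) →ₗ[F] (Fin n ⊕ Fin n → F), Commute x y → x ^ r = 1 → x ≠ 1 →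
      (∀ v w, sympBilin n F (x v) (x w) = sympBilin n F v w) →
      (∀ v w, sympBilin n F (y v) (y w) = sympBilin n F v w) → (y ^ 2 = 1 ∨ y ^ 2 = -1) → y = 1 ∨ y = -1)
    (g : PSp n F) : orderOf g ≠ 2 * r := by
  intro hg
  obtain ⟨A, rfl⟩ := QuotientGroup.mk_surjective g
  have hTj : ∀ j, ((spLin A) ^ j = 1 ∨ (spLin A) ^ j = -1) ↔ 2 * r ∣ j := fun j => by
    rw [← spLin_pow_iff hn, ← hg, orderOf_dvd_iff_pow_eq_one]
  have hTB := spLin_isom A
  generalize spLin A = T at hTj hTB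
  have h2r : T ^ (2 * r) = 1 ∨ T ^ (2 * r) = -1 := (hTj (2 * r)).2 dvd_rfl
  have h2rs : T ^ (2 * (2 * r)) = 1 := by
    rw [mul_comm, pow_mul]
    rcases h2r with h | h
    · rw [h, one_pow]
    · rw [h]; exact even_neg_one_pow_end even_two
  have hnr : ¬ 2 * r ∣ r := by
    intro h
    have := Nat.le_of_dvd hr.pos h
    have := hr.pos
    omega
  refine hnr ((hTj r).1 (h (T ^ 4) (T ^ r) ((Commute.refl T).pow_pow _ _) ?_ ?_
    (isom_pow _ T hTB _) (isom_pow _ T hTB _) ?_))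
  · rw [← pow_mul, ← h2rs]
    congr 1
    ring
  · intro h
    have h3 := (hTj _).1 (Or.inl h)
    have h4 : r ∣ 2 ^ 2 := (Dvd.intro_left _ rfl).trans h3
    exact hr2 ((Nat.prime_dvd_prime_iff_eq hr Nat.prime_two).1 (hr.dvd_of_dvd_pow h4))
  · rw [← pow_mul, mul_comm]
    exact h2r

/-- `x` acts without fixed points if `V` is small -/
theorem fpf_of_dim [Finite F] {V : Type*} [AddCommGroup V] [Module F V] [FiniteDimensional F V] {r : ℕ}
    (hrF : (r : F) ≠ 0) (x : V →ₗ[F] V) (hx : x ^ r = 1)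
    (hM : finrank F (LinearMap.range (x - 1)) = finrank F V) : ∀ v, x v = v → v = 0 := by
  intro v hv
  have htop : LinearMap.range (x - 1) = ⊤ := Submodule.eq_top_of_finrank_eq hM
  exact fpf_range hrF x hx v (by rw [htop]; trivial) hv

/-- `PSp`, `q` odd, the prime `r` divides `q^n + 1` -/
theorem psp_far_plus [Fintype F] (h2 : (2 : F) ≠ 0) {n : ℕ} (hn : 1 ≤ n) {r : ℕ} (hr : r.Prime) (hr2 : r ≠ 2)
    (hrF : (r : F) ≠ 0) (hk : orderOf ((Nat.card F : ℕ) : ZMod r) = 2 * n) (hd : r ∣ Nat.card F ^ n + 1)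
    (h4 : Nat.card F ^ n % 4 = 1) (g : PSp n F) : orderOf g ≠ 2 * r := by
  refine psp_order_ne hn hr hr2 ?_ g
  intro x y hcomm hx hx1 hxB hyB hy
  have : Nonempty (Fin n) := ⟨⟨0, hn⟩⟩
  have hdimV : finrank F (Fin n ⊕ Fin n → F) = 2 * n := by simp; ring
  have hM0 : LinearMap.range (x - 1) ≠ ⊥ := by
    intro h
    rw [LinearMap.range_eq_bot, sub_eq_zero] at h
    exact hx1 h
  have hxM := (range_inv (x := x) (y := x) (fun v => rfl)).1
  have h1 := dvd_finrank_of_fpf_submodule hr x hx _ hxM (fpf_range hrF x hx)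
  rw [hk] at h1
  have hMpos : 0 < finrank F (LinearMap.range (x - 1)) := Nat.pos_of_ne_zero fun h =>
    hM0 (Submodule.finrank_eq_zero.1 h)
  have hf : ∀ v, x v = v → v = 0 := fpf_of_dim hrF x hx (by
    rw [hdimV]
    exact le_antisymm ((Submodule.finrank_le _).trans hdimV.le) (Nat.le_of_dvd hMpos h1))
  have hirr := irr_of_dvd hr x hx hf (by rw [hdimV, hk])
  rcases hy with hy | hy
  · exact irr_eq_one_or_neg_one x y hcomm hirr hy
  · exact (irr_sq_ne_neg_one h2 (sympBilin n F) (fun u hu => eq_zero_of_forall_sympForm_left hu) hr.pos x y hcomm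
      hirr hx hxB hyB hd h4 hy).elim

theorem not_sq_neg_one_of_card [Finite F] (h3 : Nat.card F % 4 = 3) (a : F) : a ^ 2 ≠ -1 := by
  haveI : Fintype F := Fintype.ofFinite F
  intro h
  rw [Nat.card_eq_fintype_card] at h3
  have := (FiniteField.isSquare_neg_one_iff (F := F)).1 ⟨a, by rw [← h]; ring⟩
  exact this h3

/-- `PSp`, `q ≡ 3` modulo 4, the prime `r` divides `q^n - 1`, `n` odd -/
theorem psp_far_minus [Fintype F] (h2 : (2 : F) ≠ 0) {n : ℕ} (hn : 1 ≤ n) {r : ℕ} (hr : r.Prime) (hr2 : r ≠ 2)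
    (hrF : (r : F) ≠ 0) (hk : orderOf ((Nat.card F : ℕ) : ZMod r) = n) (hodd : Odd n)
    (h3 : Nat.card F % 4 = 3) (g : PSp n F) : orderOf g ≠ 2 * r := by
  refine psp_order_ne hn hr hr2 ?_ g
  intro x y hcomm hx hx1 hxB hyB hy
  have : Nonempty (Fin n) := ⟨⟨0, hn⟩⟩
  have hdimV : finrank F (Fin n ⊕ Fin n → F) = 2 * n := by simp; ring
  have hM0 : LinearMap.range (x - 1) ≠ ⊥ := by
    intro h
    rw [LinearMap.range_eq_bot, sub_eq_zero] at h
    exact hx1 h
  have hxM := (range_inv (x := x) (y := x) (fun v => rfl)).1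
  have h1 := dvd_finrank_of_fpf_submodule hr x hx _ hxM (fpf_range hrF x hx)
  rw [hk] at h1
  have hA : ∀ v, sympBilin n F v v = 0 := fun v => by rw [sympBilin_apply, sympForm_self]
  have hnd : ∀ u, (∀ v, sympBilin n F u v = 0) → u = 0 := fun u hu => eq_zero_of_forall_sympForm_right hu
  have hev : Even (finrank F (LinearMap.range (x - 1))) :=
    even_finrank_of_alt (LinearMap.BilinForm.restrict (sympBilin n F) (LinearMap.range (x - 1))) (fun z => hA _)
      (fun u hu => nondeg_range hrF (sympBilin n F) hnd x hx hxB u (fun v => hu v))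
  have hMpos : 0 < finrank F (LinearMap.range (x - 1)) := Nat.pos_of_ne_zero fun h =>
    hM0 (Submodule.finrank_eq_zero.1 h)
  have h2n : 2 * n ∣ finrank F (LinearMap.range (x - 1)) :=
    Nat.Coprime.mul_dvd_of_dvd_of_dvd (Nat.coprime_two_left.2 hodd) hev.two_dvd h1
  have hf : ∀ v, x v = v → v = 0 := fpf_of_dim hrF x hx (by
    rw [hdimV]
    exact le_antisymm ((Submodule.finrank_le _).trans hdimV.le) (Nat.le_of_dvd hMpos h2n))
  refine odd_two h2 (not_sq_neg_one_of_card h3) (sympBilin n F) (Or.inr rfl) ?_ hnd hr hr2 hrF x y hcomm hx hf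
    hxB hyB (by rw [hk]; exact hodd) (by rw [hdimV, hk]) hy
  intro v w
  have h4 := hA (v + w)
  simp only [map_add, LinearMap.add_apply, hA] at h4
  linear_combination h4

/-- **`PSp`, `q` odd** -/
theorem psp_far_odd [Fintype F] (h2 : (2 : F) ≠ 0) {n : ℕ} (hn : 2 ≤ n) : Far (PSp n F) := by
  have hqodd : Odd (Fintype.card F) := odd_card_of_two_ne_zero h2
  have hq3 : 3 ≤ Fintype.card F := by
    obtain ⟨t, ht⟩ := hqodd
    have := Fintype.one_lt_card (α := F)
    omega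
  have hqe : Nat.card F = Fintype.card F := Nat.card_eq_fintype_card
  have hq4 : Fintype.card F % 4 = 1 ∨ Fintype.card F % 4 = 3 := by
    obtain ⟨t, ht⟩ := hqodd
    omega
  by_cases hcase : Fintype.card F ^ n % 4 = 1
  · obtain ⟨r, hr, hrm, hrd, hrq⟩ := Cfsg.Agent.Lib.Zsigmondy.exists_primitive (a := Fintype.card F) (n := 2 * n)
      (by omega) (by omega) (by omega) (by omega)
    have hr2 : r ≠ 2 := by
      rintro rfl
      have := Nat.le_of_dvd (by norm_num) hrd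
      omega
    have hrF : (r : F) ≠ 0 := natCast_ne_zero_of_not_dvd hr (by rw [hqe]; exact hrq)
    have hk : orderOf ((Nat.card F : ℕ) : ZMod r) = 2 * n := by
      rw [hqe]; exact orderOf_eq_of_primitive (by omega) hrm
    refine ⟨r, hr, hr2, dvd_card_psp (by omega) hr hr2 ?_, psp_far_plus h2 (by omega) hr hr2 hrF hk ?_
      (by rw [hqe]; exact hcase)⟩
    · refine dvd_card_sp (k := 2 * n) (ηk := n) (m := n) ?_ dvd_rfl (by omega) le_rfl
      have := pow_orderOf_modEq (F := F) (r := r)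
      rwa [hk, hqe] at this
    · rw [hqe]
      exact dvd_pow_add_one_of_primitive hr (by omega) hrm
  · -- `q ≡ 3`, `n` odd
    have hq3' : Fintype.card F % 4 = 3 := by
      refine hq4.resolve_left fun h => hcase ?_
      rw [Nat.pow_mod, h, one_pow]
      rfl
    have hnodd : Odd n := by
      rw [← Nat.not_even_iff_odd]
      rintro ⟨t, rfl⟩
      apply hcase
      rw [← two_mul, pow_mul, Nat.pow_mod, Nat.pow_mod _ 2, hq3']
      norm_num
    have hn3 : 3 ≤ n := by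
      obtain ⟨t, ht⟩ := hnodd
      omega
    obtain ⟨r, hr, hrm, hrd, hrq⟩ := Cfsg.Agent.Lib.Zsigmondy.exists_primitive (a := Fintype.card F) (n := n)
      (by omega) (by omega) (by omega) (by omega)
    have hr2 : r ≠ 2 := by
      rintro rfl
      have := Nat.le_of_dvd (by norm_num) hrd
      omega
    have hrF : (r : F) ≠ 0 := natCast_ne_zero_of_not_dvd hr (by rw [hqe]; exact hrq)
    have hk : orderOf ((Nat.card F : ℕ) : ZMod r) = n := by
      rw [hqe]; exact orderOf_eq_of_primitive (by omega) hrm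
    refine ⟨r, hr, hr2, dvd_card_psp (by omega) hr hr2 ?_,
      psp_far_minus h2 (by omega) hr hr2 hrF hk hnodd (by rw [hqe]; exact hq3')⟩
    refine dvd_card_sp (k := n) (ηk := n) (m := n) ?_ (Dvd.intro_left 2 rfl) (by omega) le_rfl
    have := pow_orderOf_modEq (F := F) (r := r)
    rwa [hk, hqe] at this

/-- **`PSp`, `q` even** -/
theorem psp_far_even [Fintype F] (h2 : (2 : F) = 0) {n : ℕ} (hn : 2 ≤ n) (hsmall : n = 2 → 3 ≤ Fintype.card F) :
    Far (PSp n F) := by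
  have : CharP F 2 := CharTwo.of_one_ne_zero_of_two_eq_zero one_ne_zero h2
  have hq2 : 2 ≤ Fintype.card F := Fintype.one_lt_card (α := F)
  have h2q : 2 ∣ Fintype.card F := by
    obtain ⟨m, -, hm⟩ := FiniteField.card F 2
    rw [hm]
    exact dvd_pow_self _ (PNat.ne_zero m)
  -- the choice of `k`
  obtain ⟨k, ηk, hk2, hη, hηn, hk6⟩ : ∃ k ηk : ℕ, 3 ≤ k ∧ ((Odd k ∧ ηk = k) ∨ (Even k ∧ 2 * ηk = k)) ∧ ηk = n ∧
      ¬ (Fintype.card F = 2 ∧ k = 6) := by
    by_cases h6 : Fintype.card F = 2 ∧ 2 * n = 6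
    · refine ⟨3, 3, le_rfl, Or.inl ⟨by decide, rfl⟩, by omega, by omega⟩
    · exact ⟨2 * n, n, by omega, Or.inr ⟨even_two_mul n, rfl⟩, rfl, h6⟩
  subst hηn
  obtain ⟨r, hr, hrm, hrd, hrq⟩ := Cfsg.Agent.Lib.Zsigmondy.exists_primitive (a := Fintype.card F) (n := k)
    hq2 (by omega) (by omega) hk6
  have hr2 : r ≠ 2 := by
    rintro rfl
    exact hrq h2q
  have hk : k = orderOf ((Fintype.card F : ℕ) : ZMod r) := (orderOf_eq_of_primitive (by omega) hrm).symm
  have hdvd : r ∣ Nat.card (PSp ηk F) := by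
    refine dvd_card_psp (by omega) hr hr2 ?_
    refine dvd_card_sp (k := k) (ηk := ηk) (m := ηk) ?_ ?_ (by omega) le_rfl
    · have := pow_orderOf_modEq (F := F) (r := r)
      rwa [Nat.card_eq_fintype_card, ← hk] at this
    · rcases hη with ⟨-, h⟩ | ⟨-, h⟩
      · rw [h]; exact Dvd.intro_left 2 rfl
      · rw [h]
  have h1 := (Cfsg.Agent.S2472.result 2 ηk hn hsmall r hr hr2 hr2 hdvd k ηk hk hη).2 (by omega)
  refine ⟨r, hr, hr2, hdvd, fun g hg => h1 ⟨g, ?_⟩⟩
  rw [hg, mul_comm]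

theorem psp_far [Fintype F] {n : ℕ} (hn : 2 ≤ n) (hsmall : n = 2 → 3 ≤ Fintype.card F) :
    Far (PSp n F) := by
  by_cases h2 : (2 : F) = 0
  · exact psp_far_even h2 hn hsmall
  · exact psp_far_odd h2 hn

/-- **`PΩ_{2n+1}(q)`** -/
theorem pomega_odd_far [Fintype F] (hodd : Odd (Fintype.card F)) {n : ℕ} (hn : 3 ≤ n) :
    Far (POmega F (quadFormOdd n F)) := by
  have h2 : (2 : F) ≠ 0 := by
    intro h
    have : CharP F 2 := CharTwo.of_one_ne_zero_of_two_eq_zero one_ne_zero h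
    have h2q : 2 ∣ Fintype.card F := by
      obtain ⟨m, -, hm⟩ := FiniteField.card F 2
      rw [hm]
      exact dvd_pow_self _ (PNat.ne_zero m)
    exact (Nat.not_even_iff_odd.2 hodd) (even_iff_two_dvd.2 h2q)
  obtain ⟨r, hr, hr2, hd, hg⟩ := psp_far_odd (F := F) h2 (n := n) (by omega)
  have h3 := Cfsg.Agent.S0292.result (F := F) rfl hodd n hn
  have h4 := Cfsg.Agent.S0245.result (F := F) rfl n
  refine ⟨r, hr, hr2, ?_, fun g hgo => ?_⟩
  · have h5 : r ∣ Nat.card (Matrix.symplecticGroup (Fin n) F) := by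
      have := (Subgroup.center (Matrix.symplecticGroup (Fin n) F)).card_eq_card_quotient_mul_card_subgroup
      rw [this]
      exact dvd_mul_of_dvd_left hd _
    rw [h4, ← h3] at h5
    exact (hr.dvd_mul.1 h5).resolve_left fun h => hr2 ((Nat.prime_dvd_prime_iff_eq hr Nat.prime_two).1 h)
  · obtain ⟨g', hg'⟩ := (Cfsg.Agent.S2474.result hodd n hn 2 r Nat.prime_two hr hr2.symm).1 ⟨g, hgo⟩
    exact hg g' hg'

theorem far_of_isPSp {G : Type*} [Group G] (h : IsPSp G) : Far G := by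
  obtain ⟨F, _, _, m, hm, hsmall, ⟨e⟩⟩ := h
  exact (psp_far hm hsmall).congr e.symm

theorem far_of_isPOmegaOdd {G : Type*} [Group G] (h : IsPOmegaOdd G) : Far G := by
  obtain ⟨F, _, _, m, hm, hodd, ⟨e⟩⟩ := h
  exact (pomega_odd_far hodd hm).congr e.symm

end Cfsg.Agent.H150
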