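import Mathlib
import Cfsg.Agent.H377.Types
import Cfsg.Agent.H150.OrthProd

/-!
# Counting with the sign of a quadratic form (helper150)

`card_of_hasSign` : `q * #{Q = c} = q^(2n) - ε q^n` for `c ≠ 0`.
-/

set_option autoImplicit false
set_option linter.style.haveILetI false

namespace Cfsg.Agent.H150

open Module Cfsg
open Cfsg.Agent.H377 Cfsg.Agent.LieClassical.OrthCore

variable {F : Type*} [Field F] [Finite F]

theorem card_of_hasSign {V : Type*} [Finite V] {Q : V → F} {n : ℕ} {ε : ℤ} (h : HasSign Q n ε)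
    (hV : Nat.card V = Nat.card F ^ (2 * n)) {c : F} (hc : c ≠ 0) :
    (Nat.card F : ℤ) * (Nat.card {v : V // Q v = c} : ℤ) =
      (Nat.card F : ℤ) ^ (2 * n) - ε * (Nat.card F : ℤ) ^ n := by
  classical
  letI := Fintype.ofFinite F
  letI := Fintype.ofFinite V
  have h1 : ∑ ψ : AddChar F ℂ, ∑ v : V, ψ (Q v - c) =
      (Nat.card F : ℂ) * (Nat.card {v : V // Q v = c} : ℂ) := by
    rw [Finset.sum_comm]
    simp only [AddChar.sum_apply_eq_ite, sub_eq_zero]
    rw [Finset.sum_ite, Finset.sum_const_zero, add_zero, Finset.sum_const, nsmul_eq_mul, mul_comm,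
      Nat.card_eq_fintype_card, Nat.card_eq_fintype_card, Fintype.card_subtype]
  have h2 : ∀ ψ : AddChar F ℂ, ∑ v : V, ψ (Q v - c) = ψ (-c) * gs ψ Q := by
    intro ψ
    rw [gs_eq, Finset.mul_sum]
    refine Finset.sum_congr rfl fun v _ => ?_
    rw [sub_eq_add_neg, AddChar.map_add_eq_mul, mul_comm]
  have h3 : ∑ ψ : AddChar F ℂ, ψ (-c) = 0 := by
    rw [AddChar.sum_apply_eq_ite, if_neg (neg_ne_zero.2 hc)]
  have hgs1 : gs (1 : AddChar F ℂ) Q = (Nat.card F : ℂ) ^ (2 * n) := by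
    rw [gs_eq]
    simp only [AddChar.one_apply, Finset.sum_const, nsmul_eq_mul, mul_one]
    rw [Finset.card_univ, ← Nat.card_eq_fintype_card, hV]
    push_cast
    rfl
  have h4 : ∑ ψ : AddChar F ℂ, ∑ v : V, ψ (Q v - c) =
      (Nat.card F : ℂ) ^ (2 * n) - (ε : ℂ) * (Nat.card F : ℂ) ^ n := by
    simp only [h2]
    rw [← Finset.add_sum_erase _ _ (Finset.mem_univ (1 : AddChar F ℂ))]
    rw [← Finset.add_sum_erase _ _ (Finset.mem_univ (1 : AddChar F ℂ))] at h3
    have h5 : ∑ ψ ∈ Finset.univ.erase (1 : AddChar F ℂ), ψ (-c) * gs ψ Q =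
        (∑ ψ ∈ Finset.univ.erase (1 : AddChar F ℂ), ψ (-c)) * ((ε : ℂ) * (Nat.card F : ℂ) ^ n) := by
      rw [Finset.sum_mul]
      refine Finset.sum_congr rfl fun ψ hψ => ?_
      rw [h ψ (Finset.ne_of_mem_erase hψ)]
    rw [h5, hgs1, AddChar.one_apply]
    rw [AddChar.one_apply] at h3
    have h6 : ∑ ψ ∈ Finset.univ.erase (1 : AddChar F ℂ), ψ (-c) = -1 := by linear_combination h3
    rw [h6]
    ring
  have h7 := h1.symm.trans h4
  exact_mod_cast h7

/-- a nondegenerate form of even dimension has a sign -/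
theorem exists_hasSign {V : Type*} [AddCommGroup V] [Module F V] [Finite V] {m : ℕ} (hm : 1 ≤ m)
    (hV : finrank F V = 2 * m) (Q : QuadraticForm F V) (hQ : ND Q) :
    ∃ ε : ℤ, (ε = 1 ∨ ε = -1) ∧ HasSign (⇑Q) m ε := by
  haveI : FiniteDimensional F V := Module.Finite.of_finite
  rcases classify_all hm hV Q hQ with ⟨e, he⟩ | ⟨ζ, hζ, e, he⟩
  · exact ⟨1, Or.inl rfl, (hasSign_quadFormPlus m).congr e.toEquiv fun v => he v⟩
  · refine ⟨-1, Or.inr rfl, ?_⟩
    have h := (hasSign_quadFormMinus (m - 1) hζ).congr e.toEquiv (Q' := ⇑Q) fun v => he v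
    rwa [Nat.sub_add_cancel hm] at h

theorem card_of_hasSign' {V : Type*} [AddCommGroup V] [Module F V] [Finite V] {n : ℕ}
    (hV : finrank F V = 2 * n) {Q : V → F} {ε : ℤ} (h : HasSign Q n ε) {c : F} (hc : c ≠ 0) :
    (Nat.card F : ℤ) * (Nat.card {v : V // Q v = c} : ℤ) =
      (Nat.card F : ℤ) ^ (2 * n) - ε * (Nat.card F : ℤ) ^ n := by
  haveI : FiniteDimensional F V := Module.Finite.of_finite
  refine card_of_hasSign h ?_ hc
  letI := Fintype.ofFinite F
  rw [← hV]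
  exact Module.natCard_eq_pow_finrank

end Cfsg.Agent.H150
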