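import Cfsg.Agent.H150.FarT
import Cfsg.Agent.H150.FarExc
import Cfsg.Agent.H150.TorE7

/-!
# An odd prime not adjacent to `2`: `E₇(q)` (helper150)
-/

set_option autoImplicit false
set_option linter.style.haveILetI false

namespace Cfsg.Agent.H150

open Cfsg Cfsg.Lie Cfsg.Agent.Nodes.RGDChev Cfsg.Agent.H129 Cfsg.Agent.ChevalleyStructure

universe u

section

variable {F : Type u} [Field F] [Fintype F] {q : ℕ}

theorem card_W7 : Nat.card (CoxeterMatrix.E₇).Group = 2903040 := WeylData.certE7.card_group.trans WeylData.size_E7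

theorem not_dvd_W7 {r : ℕ} (hr : r.Prime) (h : 8 ≤ r) : ¬ r ∣ Nat.card (CoxeterMatrix.E₇).Group := by
  rw [card_W7]
  exact not_dvd_of_lt_smooth hr [2, 2, 2, 2, 2, 2, 2, 2, 2, 2, 3, 3, 3, 3, 5, 7] (by norm_num) (by simp; omega)

theorem coprime_sub {q : ℕ} (hq : 2 ≤ q) : q.Coprime (q ^ 7 - 1) := by
  have h1 : 1 ≤ q ^ 7 := Nat.one_le_pow _ _ (by omega)
  have h2 : q ^ 7 = q ^ 7 - 1 + 1 := by omega
  have h3 : (q ^ 7).Coprime (q ^ 7 - 1) := by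
    conv_lhs => rw [h2]
    simp
  exact Nat.Coprime.coprime_dvd_left (dvd_pow_self q (by norm_num)) h3

theorem coprime_add {q : ℕ} : q.Coprime (q ^ 7 + 1) := by
  have h3 : (q ^ 7).Coprime (q ^ 7 + 1) := by simp
  exact Nat.Coprime.coprime_dvd_left (dvd_pow_self q (by norm_num)) h3

/-- the torus of order `q⁷ - 1`, `q` even -/
theorem torus_E7_even (hF : Fintype.card F = q) (h2 : ¬ 2 ∣ q - 1) :
    ∃ T : Subgroup ↥(chevE7.group F), IsCyclic ↥T ∧ Nat.card ↥T = q ^ 7 - 1 ∧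
      ∀ r : ℕ, r.Prime → 8 ≤ r → (r : ℤ) ∣ 1 + (q : ℤ) + (q : ℤ) ^ 2 + (q : ℤ) ^ 3 + (q : ℤ) ^ 4 + (q : ℤ) ^ 5 + (q : ℤ) ^ 6 →
        ∀ y ∈ T, orderOf y = r → Subgroup.centralizer {y} ≤ T := by
  have hq2 : 2 ≤ q := by rw [← hF]; exact Fintype.one_lt_card
  have hp : IsType chevE7 7 CoxeterMatrix.E₇ := by simp
  have : Finite CoxeterMatrix.E₇.Group := Nat.finite_of_card_ne_zero (by rw [card_W7]; norm_num)
  have h1 : 1 ≤ q ^ 7 := Nat.one_le_pow _ _ (by omega)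
  have hco : Nat.gcd 2 (q - 1) = 1 := (Nat.Prime.coprime_iff_not_dvd Nat.prime_two).2 h2
  have hFd : ∀ a : F, ∃ b : F, b ^ 2 = a := by
    intro a
    by_cases ha : a = 0
    · exact ⟨0, by rw [ha]; exact zero_pow (by norm_num)⟩
    · have h1 : (Nat.card Fˣ).Coprime 2 := by
        rw [Nat.card_units, Nat.card_eq_fintype_card, hF]
        exact Nat.Coprime.symm hco
      obtain ⟨b, hb⟩ := (powCoprime h1).surjective (Units.mk0 a ha)
      refine ⟨b, ?_⟩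
      have h2 := congrArg Units.val hb
      rw [powCoprime_apply, Units.val_pow_eq_pow_val] at h2
      exact h2
  obtain ⟨T, h3, h4, h5, h6, -⟩ := UntwT.untw_T hp CoxeterMatrix.E₇.toCoxeterSystem (by norm_num) hF
    TorusChar.invC_E7 (by norm_num) DataE7s.hA DataE7s.chainOK DataE7s.cycOK DataE7s.rootOK
    (N := q ^ 7 - 1) (by rw [DataE7s.fN_eq]; push_cast [Nat.cast_sub h1]; ring) (coprime_sub hq2) (d := 1)
    (Or.inr ⟨rfl, hFd⟩)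
  refine ⟨T, h3, Nat.dvd_antisymm h4 (by rwa [one_mul] at h5), fun r hr hr8 hrd y hy hyr => ?_⟩
  refine h6 r hr (not_dvd_W7 hr hr8) (fun s hs => ?_) y hy hyr
  rcases DataE7s.dvd_of_G hrd s hs with h | h | h
  · have := Nat.le_of_dvd (by norm_num) (Int.natCast_dvd_natCast.1 (by exact_mod_cast h) : r ∣ 1)
    omega
  · have := Nat.le_of_dvd (by norm_num) (Int.natCast_dvd_natCast.1 (by exact_mod_cast h) : r ∣ 2)
    omega
  · have := Nat.le_of_dvd (by norm_num) (Int.natCast_dvd_natCast.1 (by exact_mod_cast h) : r ∣ 7)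
    omega

theorem two_mul_of {a N : ℕ} (hN : 0 < N) (h1 : a ∣ N) (h2 : N ∣ 2 * a) (h3 : a ≠ N) : 2 * a = N := by
  obtain ⟨b, hb⟩ := h1
  obtain ⟨c, hc⟩ := h2
  have ha : 0 < a := Nat.pos_of_ne_zero (by rintro rfl; omega)
  rw [hb, mul_assoc, mul_comm 2 a] at hc
  have h4 := Nat.eq_of_mul_eq_mul_left ha hc
  have hb1 : b ≠ 1 := by rintro rfl; exact h3 (by rw [hb, mul_one])
  have hb2 : b ∣ 2 := ⟨c, h4⟩
  have h5 := (Nat.dvd_prime Nat.prime_two).1 hb2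
  rcases h5 with h5 | h5
  · exact absurd h5 hb1
  · rw [hb, h5, mul_comm]

/-- the torus of order `(q⁷ - 1)/2`, `q` odd -/
theorem torus_E7_sub (hF : Fintype.card F = q) (h2 : 2 ∣ q - 1) :
    ∃ T : Subgroup ↥(chevE7.group F), IsCyclic ↥T ∧ 2 * Nat.card ↥T = q ^ 7 - 1 ∧
      ∀ r : ℕ, r.Prime → 8 ≤ r → (r : ℤ) ∣ 1 + (q : ℤ) + (q : ℤ) ^ 2 + (q : ℤ) ^ 3 + (q : ℤ) ^ 4 + (q : ℤ) ^ 5 + (q : ℤ) ^ 6 →
        ∀ y ∈ T, orderOf y = r → Subgroup.centralizer {y} ≤ T := by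
  have hq2 : 2 ≤ q := by rw [← hF]; exact Fintype.one_lt_card
  have hp : IsType chevE7 7 CoxeterMatrix.E₇ := by simp
  have : Finite CoxeterMatrix.E₇.Group := Nat.finite_of_card_ne_zero (by rw [card_W7]; norm_num)
  have h1 : 1 ≤ q ^ 7 := Nat.one_le_pow _ _ (by omega)
  obtain ⟨T, h3, h4, h5, h7, h6⟩ := untw_Td hp CoxeterMatrix.E₇.toCoxeterSystem (by norm_num) hF Nat.prime_two
    TorusChar.invC_E7 h2 (PhiE.isPhi_E7 _) (kv := ![0, 1, 0, 0, 1, 0, 1]) (i0 := ⟨6, by decide⟩) rfl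
    (by decide +kernel)
    (Bc := ![![4, 4, 6, 8, 6, 4, 2], ![4, 7, 8, 12, 9, 6, 3], ![6, 8, 12, 16, 12, 8, 4],
      ![8, 12, 16, 24, 18, 12, 6], ![6, 9, 12, 18, 15, 10, 5], ![4, 6, 8, 12, 10, 8, 4],
      ![2, 3, 4, 6, 5, 4, 3]]) (by decide +kernel)
    DataE7s.hA DataE7s.chainOK DataE7s.cycOK DataE7s.rootOK
    (N := q ^ 7 - 1) (by rw [DataE7s.fN_eq]; push_cast [Nat.cast_sub h1]; ring) (coprime_sub hq2)
  have hN0 : 0 < q ^ 7 - 1 := by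
    have : q ^ 1 ≤ q ^ 7 := Nat.pow_le_pow_right (by omega) (by norm_num)
    rw [pow_one] at this
    omega
  refine ⟨T, h3, two_mul_of hN0 h4 h5 h7, fun r hr hr8 hrd y hy hyr => ?_⟩
  refine h6 r hr (not_dvd_W7 hr hr8) (fun s hs => ?_) y hy hyr
  rcases DataE7s.dvd_of_G hrd s hs with h | h | h
  · have := Nat.le_of_dvd (by norm_num) (Int.natCast_dvd_natCast.1 (by exact_mod_cast h) : r ∣ 1)
    omega
  · have := Nat.le_of_dvd (by norm_num) (Int.natCast_dvd_natCast.1 (by exact_mod_cast h) : r ∣ 2)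
    omega
  · have := Nat.le_of_dvd (by norm_num) (Int.natCast_dvd_natCast.1 (by exact_mod_cast h) : r ∣ 7)
    omega

/-- the torus of order `(q⁷ + 1)/2`, `q` odd -/
theorem torus_E7_add (hF : Fintype.card F = q) (h2 : 2 ∣ q - 1) :
    ∃ T : Subgroup ↥(chevE7.group F), IsCyclic ↥T ∧ 2 * Nat.card ↥T = q ^ 7 + 1 ∧
      ∀ r : ℕ, r.Prime → 8 ≤ r → (r : ℤ) ∣ 1 - (q : ℤ) + (q : ℤ) ^ 2 - (q : ℤ) ^ 3 + (q : ℤ) ^ 4 - (q : ℤ) ^ 5 + (q : ℤ) ^ 6 →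
        ∀ y ∈ T, orderOf y = r → Subgroup.centralizer {y} ≤ T := by
  have hq2 : 2 ≤ q := by rw [← hF]; exact Fintype.one_lt_card
  have hp : IsType chevE7 7 CoxeterMatrix.E₇ := by simp
  have : Finite CoxeterMatrix.E₇.Group := Nat.finite_of_card_ne_zero (by rw [card_W7]; norm_num)
  obtain ⟨T, h3, h4, h5, h7, h6⟩ := untw_Td hp CoxeterMatrix.E₇.toCoxeterSystem (by norm_num) hF Nat.prime_two
    TorusChar.invC_E7 h2 (PhiE.isPhi_E7 _) (kv := ![0, 1, 0, 0, 1, 0, 1]) (i0 := ⟨6, by decide⟩) rfl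
    (by decide +kernel)
    (Bc := ![![4, 4, 6, 8, 6, 4, 2], ![4, 7, 8, 12, 9, 6, 3], ![6, 8, 12, 16, 12, 8, 4],
      ![8, 12, 16, 24, 18, 12, 6], ![6, 9, 12, 18, 15, 10, 5], ![4, 6, 8, 12, 10, 8, 4],
      ![2, 3, 4, 6, 5, 4, 3]]) (by decide +kernel)
    DataE7m.hA DataE7m.chainOK DataE7m.cycOK DataE7m.rootOK
    (N := q ^ 7 + 1) (by rw [DataE7m.fN_eq]; push_cast; ring) coprime_add
  refine ⟨T, h3, two_mul_of (by omega) h4 h5 h7, fun r hr hr8 hrd y hy hyr => ?_⟩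
  refine h6 r hr (not_dvd_W7 hr hr8) (fun s hs => ?_) y hy hyr
  rcases DataE7m.dvd_of_G hrd s hs with h | h | h
  · have := Nat.le_of_dvd (by norm_num) (Int.natCast_dvd_natCast.1 (by exact_mod_cast h) : r ∣ 1)
    omega
  · have := Nat.le_of_dvd (by norm_num) (Int.natCast_dvd_natCast.1 (by exact_mod_cast h) : r ∣ 2)
    omega
  · have := Nat.le_of_dvd (by norm_num) (Int.natCast_dvd_natCast.1 (by exact_mod_cast h) : r ∣ 7)
    omega

theorem dvd_phi_seven {r : ℕ} (hq : 2 ≤ q) (hr : r.Prime) (hrm : ∀ j, r ∣ q ^ j - 1 ↔ 7 ∣ j) :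
    (r : ℤ) ∣ 1 + (q : ℤ) + (q : ℤ) ^ 2 + (q : ℤ) ^ 3 + (q : ℤ) ^ 4 + (q : ℤ) ^ 5 + (q : ℤ) ^ 6 := by
  have h1 : 1 ≤ q ^ 7 := Nat.one_le_pow _ _ (by omega)
  have h2 : (r : ℤ) ∣ ((q : ℤ) - 1) * (1 + (q : ℤ) + (q : ℤ) ^ 2 + (q : ℤ) ^ 3 + (q : ℤ) ^ 4 + (q : ℤ) ^ 5 + (q : ℤ) ^ 6) := by
    have h3 := Int.natCast_dvd_natCast.2 ((hrm 7).2 dvd_rfl)
    have e : ((q : ℤ) - 1) * (1 + (q : ℤ) + (q : ℤ) ^ 2 + (q : ℤ) ^ 3 + (q : ℤ) ^ 4 + (q : ℤ) ^ 5 + (q : ℤ) ^ 6) =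
        ((q ^ 7 - 1 : ℕ) : ℤ) := by
      push_cast [Nat.cast_sub h1]
      ring
    rw [e]
    exact h3
  refine ((Nat.prime_iff_prime_int.1 hr).dvd_or_dvd h2).resolve_left fun h3 => ?_
  have h4 : r ∣ q ^ 1 - 1 := by
    rw [pow_one]
    exact Int.natCast_dvd_natCast.1 (by rw [Nat.cast_sub (by omega)]; exact_mod_cast h3)
  have := (hrm 1).1 h4
  omega

theorem dvd_phi_fourteen {r : ℕ} (_hq : 2 ≤ q) (hr : r.Prime) (hrm : ∀ j, r ∣ q ^ j - 1 ↔ 14 ∣ j) :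
    (r : ℤ) ∣ 1 - (q : ℤ) + (q : ℤ) ^ 2 - (q : ℤ) ^ 3 + (q : ℤ) ^ 4 - (q : ℤ) ^ 5 + (q : ℤ) ^ 6 := by
  have h0 : r ∣ q ^ 7 + 1 := dvd_pow_add_one_of_primitive hr (by norm_num) hrm
  have h2 : (r : ℤ) ∣ ((q : ℤ) + 1) * (1 - (q : ℤ) + (q : ℤ) ^ 2 - (q : ℤ) ^ 3 + (q : ℤ) ^ 4 - (q : ℤ) ^ 5 + (q : ℤ) ^ 6) := by
    have h3 := Int.natCast_dvd_natCast.2 h0
    have e : ((q : ℤ) + 1) * (1 - (q : ℤ) + (q : ℤ) ^ 2 - (q : ℤ) ^ 3 + (q : ℤ) ^ 4 - (q : ℤ) ^ 5 + (q : ℤ) ^ 6) =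
        ((q ^ 7 + 1 : ℕ) : ℤ) := by
      push_cast
      ring
    rw [e]
    exact h3
  refine ((Nat.prime_iff_prime_int.1 hr).dvd_or_dvd h2).resolve_left fun h3 => ?_
  have h4 : r ∣ q ^ 2 - 1 := by
    have h5 : q ^ 2 - 1 = (q + 1) * (q - 1) := by
      have := Nat.sq_sub_sq q 1
      rwa [one_pow] at this
    rw [h5]
    exact dvd_mul_of_dvd_left (Int.natCast_dvd_natCast.1 (by push_cast; exact h3)) _
  have := (hrm 2).1 h4
  omega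

theorem far_E7 : Far ↥(chevE7.group F) := by
  obtain ⟨q, hF⟩ : ∃ q, Fintype.card F = q := ⟨_, rfl⟩
  have hq2 : 2 ≤ q := by rw [← hF]; exact Fintype.one_lt_card
  have h1 : 1 ≤ q ^ 7 := Nat.one_le_pow _ _ (by omega)
  by_cases h2 : 2 ∣ q - 1
  · have h4 : q % 4 = 1 ∨ q % 4 = 3 := by omega
    rcases h4 with h4 | h4
    · -- `m = 14`
      obtain ⟨r, hr, hr2, hr8, -, -, hrm, -⟩ := exists_prim (q := q) (m := 14) hq2 (by norm_num) (by omega)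
      obtain ⟨T, -, hT, hc⟩ := torus_E7_add hF h2
      refine far_of_T hr hr2 ?_ ?_ (hc r hr (by omega) (dvd_phi_fourteen hq2 hr hrm))
      · have h5 : r ∣ 2 * Nat.card ↥T := by
          rw [hT]; exact dvd_pow_add_one_of_primitive hr (by norm_num) hrm
        refine (hr.dvd_mul.1 h5).resolve_left fun h6 => ?_
        have := Nat.le_of_dvd (by norm_num) h6
        omega
      · have h5 : q ^ 7 % 4 = 1 := by
          rw [Nat.pow_mod, h4]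
        rw [Nat.odd_iff]
        omega
    · -- `m = 7`
      obtain ⟨r, hr, hr2, hr8, -, -, hrm, -⟩ := exists_prim (q := q) (m := 7) hq2 (by norm_num) (by omega)
      obtain ⟨T, -, hT, hc⟩ := torus_E7_sub hF h2
      refine far_of_T hr hr2 ?_ ?_ (hc r hr (by omega) (dvd_phi_seven hq2 hr hrm))
      · have h5 : r ∣ 2 * Nat.card ↥T := by
          rw [hT]; exact (hrm 7).2 dvd_rfl
        refine (hr.dvd_mul.1 h5).resolve_left fun h6 => ?_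
        have := Nat.le_of_dvd (by norm_num) h6
        omega
      · have h5 : q ^ 7 % 4 = 3 := by
          rw [Nat.pow_mod, h4]
        rw [Nat.odd_iff]
        omega
  · obtain ⟨r, hr, hr2, hr8, -, -, hrm, -⟩ := exists_prim (q := q) (m := 7) hq2 (by norm_num) (by omega)
    obtain ⟨T, -, hT, hc⟩ := torus_E7_even hF h2
    refine far_of_T hr hr2 ?_ ?_ (hc r hr (by omega) (dvd_phi_seven hq2 hr hrm))
    · rw [hT]; exact (hrm 7).2 dvd_rfl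
    · have h5 : q % 2 = 0 := by omega
      have h6 : q ^ 7 % 2 = 0 := by
        rw [Nat.pow_mod, h5]
      rw [Nat.odd_iff]
      omega

end

end Cfsg.Agent.H150
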