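import Mathlib
import Cfsg.Agent.H150.FarOrthThree
import Cfsg.Agent.S0243
import Cfsg.Agent.S2470
import Cfsg.Agent.S2471

/-!
# An odd prime not adjacent to `2`: `PSL_n(q)` (helper150)
-/

set_option autoImplicit false
set_option linter.style.haveILetI false

namespace Cfsg.Agent.H150

open Module Cfsg
open Cfsg.Agent.S2470 (lin det_lin mk_pow_eq_one_iff lin_pow_iff)

variable {F : Type*} [Field F]

/-- the criterion -/
theorem psl_order_ne [Finite F] {n : ℕ} (hn : 1 ≤ n) {r : ℕ} (hr : r.Prime) (hcop : (Nat.card Fˣ).Coprime r)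
    (h : ∀ x y : (Fin n → F) →ₗ[F] (Fin n → F), Commute x y → x ^ r = 1 →
      (∀ a : F, x ≠ a • (1 : Module.End F (Fin n → F))) → LinearMap.det y = 1 →
      ∀ c : F, y ^ 2 = c • (1 : Module.End F (Fin n → F)) → ∃ a : F, y = a • (1 : Module.End F (Fin n → F)))
    (hr2 : r ≠ 2)
    (g : Matrix.ProjectiveSpecialLinearGroup (Fin n) F) : orderOf g ≠ 2 * r := by
  intro hg
  obtain ⟨A, rfl⟩ := QuotientGroup.mk_surjective g
  have hTj : ∀ j, (∃ c : F, (lin A) ^ j = c • (1 : Module.End F (Fin n → F))) ↔ 2 * r ∣ j := by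
    intro j
    rw [← hg, orderOf_dvd_iff_pow_eq_one, mk_pow_eq_one_iff]
    exact exists_congr fun c => (lin_pow_iff A j c).symm
  have hdet := det_lin A
  generalize lin A = T at hTj hdet
  obtain ⟨c, hc⟩ := (hTj (2 * r)).2 dvd_rfl
  have hc0 : c ≠ 0 := by
    rintro rfl
    have h1 : LinearMap.det (T ^ (2 * r)) = 1 := by rw [map_pow, hdet, one_pow]
    rw [hc, zero_smul] at h1
    haveI : Nonempty (Fin n) := ⟨⟨0, hn⟩⟩
    have h3 : LinearMap.det (0 : Module.End F (Fin n → F)) = 0 := by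
      rw [LinearMap.det_zero, finrank_fin_fun, zero_pow (by omega)]
    rw [h3] at h1
    exact zero_ne_one h1
  set u : Fˣ := Units.mk0 c hc0 with hu
  set v : Fˣ := (powCoprime hcop).symm u with hv
  have hvr : v ^ r = u := (powCoprime hcop).apply_symm_apply u
  have hvr' : (v : F) ^ r = c := by
    have := congrArg Units.val hvr
    rwa [Units.val_pow_eq_pow_val] at this
  have hv0 : (v : F) ≠ 0 := v.ne_zero
  have hno : ∀ j, j < 2 * r → j ≠ 0 → ∀ a : F, T ^ j ≠ a • (1 : Module.End F (Fin n → F)) := by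
    intro j hj hj0 a ha
    have := Nat.le_of_dvd (Nat.pos_of_ne_zero hj0) ((hTj j).1 ⟨a, ha⟩)
    omega
  have hr2' := hr.two_le
  obtain ⟨a, ha⟩ := h ((v : F)⁻¹ • T ^ 2) (T ^ r) (((Commute.refl T).pow_pow _ _).smul_left _) (by
      rw [smul_pow, ← pow_mul, hc, smul_smul, inv_pow, hvr', inv_mul_cancel₀ hc0, one_smul]) (by
      intro a ha
      refine hno 2 (by omega) (by norm_num) ((v : F) * a) ?_
      rw [← smul_smul, ← ha, smul_smul, mul_inv_cancel₀ hv0, one_smul]) (by rw [map_pow, hdet, one_pow]) c (by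
      rw [← pow_mul, mul_comm r 2, hc])
  exact hno r (by omega) hr.ne_zero a ha

theorem isSquare_of_pow_eq_one [Fintype F] (h2 : (2 : F) ≠ 0) {c : F} {n t m s : ℕ} (hc : c ^ n = 1)
    (hn : n = 2 ^ t * m) (hm : Odd m) (hq : Fintype.card F = 2 ^ (t + 1) * s + 1) (hn0 : n ≠ 0) : ∃ a : F, c = a ^ 2 := by
  have hchar : ringChar F ≠ 2 := by
    intro h
    apply h2
    have := ringChar.Nat.cast_ringChar (R := F)
    rw [h] at this
    exact_mod_cast this
  have hc0 : c ≠ 0 := by
    rintro rfl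
    rw [zero_pow hn0] at hc
    exact zero_ne_one hc
  have hhalf : Fintype.card F / 2 = 2 ^ t * s := by
    rw [hq, pow_succ]
    have : 2 ^ t * 2 * s = 2 * (2 ^ t * s) := by ring
    omega
  have hsq : IsSquare c := by
    rw [FiniteField.isSquare_iff hchar hc0, hhalf]
    rcases FiniteField.pow_dichotomy hchar hc0 with h | h
    · rwa [hhalf] at h
    · exfalso
      rw [hhalf] at h
      have h3 : (c ^ (2 ^ t * s)) ^ m = -1 := by rw [h, hm.neg_one_pow]
      have h4 : (c ^ (2 ^ t * s)) ^ m = 1 := by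
        rw [← pow_mul, show 2 ^ t * s * m = n * s by rw [hn]; ring, pow_mul, hc, one_pow]
      rw [h4] at h3
      have : (2 : F) = 0 := by
        have : (1 : F) + 1 = 0 := by nth_rewrite 1 [h3]; exact neg_add_cancel 1
        rwa [one_add_one_eq_two] at this
      exact h2 this
  obtain ⟨a, ha⟩ := hsq
  exact ⟨a, by rw [ha, sq]⟩

theorem coprime_units_of_orderOf [Finite F] {r : ℕ} (hr : r.Prime) (hk : 2 ≤ orderOf ((Nat.card F : ℕ) : ZMod r)) :
    (Nat.card Fˣ).Coprime r := by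
  rw [Nat.coprime_comm, hr.coprime_iff_not_dvd, Nat.card_units]
  intro h
  have hq : 1 ≤ Nat.card F := Nat.card_pos
  have h1 : ((Nat.card F : ℕ) : ZMod r) = 1 := by
    have := (ZMod.natCast_eq_zero_iff (Nat.card F - 1) r).2 h
    rw [Nat.cast_sub hq, Nat.cast_one, sub_eq_zero] at this
    exact this
  rw [h1, orderOf_one] at hk
  omega

/-- `k = n` -/
theorem psl_full [Fintype F] (h2 : (2 : F) ≠ 0) {n : ℕ} (hn : 2 ≤ n) {r : ℕ} (hr : r.Prime) (hr2 : r ≠ 2)
    (hrF : (r : F) ≠ 0) (hk : orderOf ((Nat.card F : ℕ) : ZMod r) = n) {t m s : ℕ}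
    (hnm : n = 2 ^ t * m) (hm : Odd m) (hq : Fintype.card F = 2 ^ (t + 1) * s + 1)
    (g : Matrix.ProjectiveSpecialLinearGroup (Fin n) F) : orderOf g ≠ 2 * r := by
  refine psl_order_ne (by omega) hr (coprime_units_of_orderOf hr (by omega)) ?_ hr2 g
  intro x y hcomm hx hxs hdet c hy
  haveI : Nonempty (Fin n) := ⟨⟨0, by omega⟩⟩
  have hx1 : x ≠ 1 := fun h => hxs 1 (by rw [h, one_smul])
  have hxM := (range_inv (x := x) (y := x) (fun v => rfl)).1
  have h1 := dvd_finrank_of_fpf_submodule hr x hx _ hxM (fpf_range hrF x hx)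
  rw [hk] at h1
  have hdim : finrank F (Fin n → F) = n := finrank_fin_fun F
  have hM := finrank_range_le_of_dvd hx1 h1 hdim (by omega)
  have hf := fpf_of_dim hrF x hx (hM.trans hdim.symm)
  have hirr := irr_of_dvd hr x hx hf (by rw [hk, hdim])
  have hcn : c ^ n = 1 := by
    have h3 : LinearMap.det (y ^ 2) = 1 := by rw [map_pow, hdet, one_pow]
    have e2 : LinearMap.det (1 : Module.End F (Fin n → F)) = 1 := LinearMap.det_id
    rw [hy, LinearMap.det_smul, hdim, e2, mul_one] at h3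
    exact h3
  obtain ⟨a, rfl⟩ := isSquare_of_pow_eq_one h2 hcn hnm hm hq (by omega)
  rcases irr_eq_one_or x y hcomm hirr hy with h | h
  · exact ⟨a, h⟩
  · exact ⟨-a, h⟩

/-- `k = n - 1` -/
theorem psl_partial [Fintype F] (h2 : (2 : F) ≠ 0) {n : ℕ} (hn : 4 ≤ n) (hev : Even n) {r : ℕ} (hr : r.Prime) (hr2 : r ≠ 2)
    (hrF : (r : F) ≠ 0) (hk : orderOf ((Nat.card F : ℕ) : ZMod r) = n - 1) {u w j : ℕ} (hw : Odd w)
    (hq : Fintype.card F = 2 ^ u * w + 1) (hn' : n = 2 ^ u * j)
    (g : Matrix.ProjectiveSpecialLinearGroup (Fin n) F) : orderOf g ≠ 2 * r := by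
  refine psl_order_ne (by omega) hr (coprime_units_of_orderOf hr (by omega)) ?_ hr2 g
  intro x y hcomm hx hxs hdet c hy
  haveI : Nonempty (Fin n) := ⟨⟨0, by omega⟩⟩
  have hxy : ∀ v, x (y v) = y (x v) := fun v => LinearMap.congr_fun hcomm.eq v
  have hx1 : x ≠ 1 := fun h => hxs 1 (by rw [h, one_smul])
  have hxM := (range_inv (x := x) (y := x) (fun v => rfl)).1
  have h1 := dvd_finrank_of_fpf_submodule hr x hx _ hxM (fpf_range hrF x hx)
  rw [hk] at h1
  have hdim : finrank F (Fin n → F) = n := finrank_fin_fun F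
  have hM := finrank_range_le_of_dvd hx1 h1 hdim (by omega)
  have hcompl := isCompl_fix hrF x hx
  have hsum := Submodule.finrank_add_eq_of_isCompl hcompl
  have hyM := (range_inv hxy).1
  have hyC := (range_inv hxy).2
  have hfpf := fpf_range hrF x hx
  have hC : finrank F (LinearMap.ker (x - 1)) = 1 := by omega
  -- `y` is a scalar on `C`
  obtain ⟨b, hb⟩ : ∃ b : F, ∀ v ∈ LinearMap.ker (x - 1), y v = b • v := by
    obtain ⟨v₀, hv₀, hspan⟩ := finrank_eq_one_iff'.1 hC
    obtain ⟨b, hb⟩ := hspan ⟨y v₀, hyC v₀ v₀.2⟩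
    refine ⟨b, fun v hv => ?_⟩
    obtain ⟨d, hd⟩ := hspan ⟨v, hv⟩
    have e1 : v = d • (v₀ : Fin n → F) := (congrArg Subtype.val hd).symm
    have e2 : y v₀ = b • (v₀ : Fin n → F) := (congrArg Subtype.val hb).symm
    rw [e1, map_smul, e2, smul_comm]
  obtain ⟨v₀, hv₀C, hv₀⟩ : ∃ v ∈ LinearMap.ker (x - 1), v ≠ 0 := by
    refine (Submodule.ne_bot_iff _).1 fun h => ?_
    rw [h, finrank_bot] at hC
    omega
  have hcb : c = b ^ 2 := by
    have e1 : y (y v₀) = c • v₀ := LinearMap.congr_fun hy v₀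
    rw [hb v₀ hv₀C, map_smul, hb v₀ hv₀C, smul_smul] at e1
    have e2 : (b * b - c) • v₀ = 0 := by rw [sub_smul, e1, sub_self]
    have := (smul_eq_zero.1 e2).resolve_right hv₀
    rw [sq]
    exact (sub_eq_zero.1 this).symm
  subst hcb
  have hb0 : b ≠ 0 := by
    rintro rfl
    have h3 : LinearMap.det (y ^ 2) = 1 := by rw [map_pow, hdet, one_pow]
    have e2 : LinearMap.det (0 : Module.End F (Fin n → F)) = 0 := by
      rw [LinearMap.det_zero, finrank_fin_fun, zero_pow (by omega)]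
    rw [hy, zero_pow two_ne_zero, zero_smul, e2] at h3
    exact zero_ne_one h3
  set C := LinearMap.ker (x - 1) with hCdef
  set M := LinearMap.range (x - 1) with hMdef
  haveI : Nontrivial M := Module.nontrivial_of_finrank_pos (R := F) (by omega)
  have hf' : ∀ v : M, x.restrict hxM v = v → v = 0 := fun v hv =>
    Subtype.ext (hfpf v v.2 (congrArg Subtype.val hv))
  have hirr := irr_of_dvd hr (x.restrict hxM) (restrict_pow_eq_one hxM hx) hf' (by rw [hM, hk])
  have hres := irr_eq_one_or (x.restrict hxM) (y.restrict hyM) (LinearMap.ext fun v => Subtype.ext (hxy v)) hirr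
    (a := b) (LinearMap.ext fun v => Subtype.ext (LinearMap.congr_fun hy v))
  have hdec : ∀ v : Fin n → F, ∃ a ∈ C, ∃ b ∈ M, v = a + b := by
    intro v
    obtain ⟨a, ha, b, hb, rfl⟩ := Submodule.mem_sup.1
      (show v ∈ C ⊔ M by rw [hcompl.sup_eq_top]; trivial)
    exact ⟨a, ha, b, hb, rfl⟩
  rcases hres with h | h
  · refine ⟨b, LinearMap.ext fun v => ?_⟩
    obtain ⟨v1, hv1, v2, hv2, rfl⟩ := hdec v
    rw [map_add, hb v1 hv1, LinearMap.smul_apply, Module.End.one_apply, smul_add]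
    have e1 : y v2 = b • v2 := congrArg Subtype.val (LinearMap.congr_fun h ⟨v2, hv2⟩)
    rw [e1]
  · exfalso
    -- the determinant
    have hyM2 : ∀ v ∈ M, y v = (-b) • v := fun v hv =>
      congrArg Subtype.val (LinearMap.congr_fun h ⟨v, hv⟩)
    have hd := LinearMap.det_eq_det_mul_det C y hyC
    have hq' : C.mapQ C y hyC = (-b) • (1 : Module.End F ((Fin n → F) ⧸ C)) := by
      apply LinearMap.ext
      intro v
      obtain ⟨v, rfl⟩ := Submodule.mkQ_surjective C v
      obtain ⟨a1, ha1, b1, hb1, rfl⟩ := hdec v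
      have e1 : C.mkQ (a1 + b1) = C.mkQ b1 := by
        rw [map_add]
        have : C.mkQ a1 = 0 := (Submodule.Quotient.mk_eq_zero C).2 ha1
        rw [this, zero_add]
      rw [e1]
      show C.mkQ (y b1) = _
      rw [hyM2 b1 hb1, map_smul]
      rfl
    have hfr : finrank F ((Fin n → F) ⧸ C) = n - 1 := by
      have h1 := Submodule.finrank_quotient_add_finrank C
      omega
    have e2 : LinearMap.det (1 : Module.End F ((Fin n → F) ⧸ C)) = 1 := LinearMap.det_id
    have hrC : y.restrict hyC = b • (1 : Module.End F C) :=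
      LinearMap.ext fun v => Subtype.ext (hb v v.2)
    have e3 : LinearMap.det (1 : Module.End F C) = 1 := LinearMap.det_id
    rw [hdet, hq', hrC, LinearMap.det_smul, LinearMap.det_smul, hfr, hC, e2, e3, mul_one, mul_one, pow_one] at hd
    have hodd : Odd (n - 1) := by
      obtain ⟨t, ht⟩ := hev
      exact ⟨t - 1, by omega⟩
    rw [hodd.neg_pow, mul_neg, ← pow_succ', Nat.sub_add_cancel (by omega)] at hd
    have hbn : b ^ n = -1 := by rw [hd, neg_neg]
    have h5 : (b ^ n) ^ w = 1 := by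
      rw [← pow_mul, hn', show 2 ^ u * j * w = (2 ^ u * w) * j by ring, pow_mul]
      have : b ^ (2 ^ u * w) = 1 := by
        have := FiniteField.pow_card_sub_one_eq_one b hb0
        rwa [hq, Nat.add_sub_cancel] at this
      rw [this, one_pow]
    rw [hbn, hw.neg_one_pow] at h5
    have : (2 : F) = 0 := by
      have : (1 : F) + 1 = 0 := by nth_rewrite 1 [← h5]; exact neg_add_cancel 1
      rwa [one_add_one_eq_two] at this
    exact h2 this

theorem dvd_card_psl [Fintype F] {n : ℕ} (hn : 2 ≤ n) {r k : ℕ} (hr : r.Prime) (hk2 : 2 ≤ k) (hkn : k ≤ n)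
    (hq2 : 2 ≤ Fintype.card F)
    (hrm : ∀ m, r ∣ Fintype.card F ^ m - 1 ↔ k ∣ m) : r ∣ Nat.card (Matrix.ProjectiveSpecialLinearGroup (Fin n) F) := by
  have h := Cfsg.Agent.S0243.result (F := F) rfl n hn
  have hnq : ¬ r ∣ Fintype.card F - 1 := by
    intro h1
    have := Nat.le_of_dvd one_pos ((hrm 1).1 (by rwa [pow_one]))
    omega
  have hT : r ∣ ∏ i : Fin n, (Fintype.card F ^ n - Fintype.card F ^ (i : ℕ)) := by
    refine dvd_trans ?_ (Finset.dvd_prod_of_mem _ (Finset.mem_univ (⟨n - k, by omega⟩ : Fin n)))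
    show r ∣ Fintype.card F ^ n - Fintype.card F ^ (n - k)
    have : Fintype.card F ^ n - Fintype.card F ^ (n - k) = Fintype.card F ^ (n - k) * (Fintype.card F ^ k - 1) := by
      rw [Nat.mul_sub, ← pow_add, Nat.sub_add_cancel hkn, mul_one]
    rw [this]
    exact dvd_mul_of_dvd_right ((hrm k).2 dvd_rfl) _
  rw [← h] at hT
  rcases hr.dvd_mul.1 hT with h1 | h1
  · exact absurd (h1.trans (Nat.gcd_dvd_right _ _)) hnq
  · exact (hr.dvd_mul.1 h1).resolve_left hnq

/-- **`PSL_n(q)`, `q` odd, `n ≥ 3`** -/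
theorem psl_far_odd [Fintype F] (h2 : (2 : F) ≠ 0) {n : ℕ} (hn : 3 ≤ n) :
    Far (Matrix.ProjectiveSpecialLinearGroup (Fin n) F) := by
  have hqodd : Odd (Fintype.card F) := odd_card_of_two_ne_zero h2
  have hqe : Nat.card F = Fintype.card F := Nat.card_eq_fintype_card
  have hq3 : 3 ≤ Fintype.card F := by
    have := Fintype.one_lt_card (α := F)
    obtain ⟨t, ht⟩ := hqodd
    omega
  obtain ⟨t, m, hm, hnm⟩ := Nat.exists_eq_two_pow_mul_odd (n := n) (by omega)
  obtain ⟨u, w, hw, hqu⟩ := Nat.exists_eq_two_pow_mul_odd (n := Fintype.card F - 1) (by omega)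
  have hqu' : Fintype.card F = 2 ^ u * w + 1 := by omega
  by_cases htu : t + 1 ≤ u
  · -- `k = n`
    obtain ⟨r, hr, hr2, hrF, hk, hrm⟩ := exists_primitive_prime (F := F) (k := n) (by omega) (by omega)
    refine ⟨r, hr, hr2, dvd_card_psl (by omega) hr (by omega) le_rfl (by omega) hrm,
      psl_full h2 (by omega) hr hr2 hrF hk hnm hm (s := 2 ^ (u - (t + 1)) * w) ?_⟩
    rw [← mul_assoc, ← pow_add, Nat.add_sub_cancel' htu]
    exact hqu'
  · -- `k = n - 1`
    have hu1 : 1 ≤ u := by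
      by_contra hu
      have : u = 0 := by omega
      rw [this, pow_zero, one_mul] at hqu
      rw [← hqu] at hw
      obtain ⟨a, ha⟩ := hqodd
      obtain ⟨b, hb⟩ := hw
      omega
    have hev : Even n := by
      rw [hnm, show t = (t - 1) + 1 by omega, pow_succ]
      exact ⟨2 ^ (t - 1) * m, by ring⟩
    have hn4 : 4 ≤ n := by
      obtain ⟨a, ha⟩ := hev
      omega
    obtain ⟨r, hr, hr2, hrF, hk, hrm⟩ := exists_primitive_prime (F := F) (k := n - 1) (by omega) (by omega)
    refine ⟨r, hr, hr2, dvd_card_psl (by omega) hr (by omega) (by omega) (by omega) hrm,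
      psl_partial h2 hn4 hev hr hr2 hrF hk hw hqu' (j := 2 ^ (t - u) * m) ?_⟩
    rw [← mul_assoc, ← pow_add, Nat.add_sub_cancel' (by omega)]
    exact hnm

/-- **`PSL_2(q)`, `q` odd** -/
theorem psl_far_two [Fintype F] (h2 : (2 : F) ≠ 0) (hq : 4 ≤ Fintype.card F) :
    Far (Matrix.ProjectiveSpecialLinearGroup (Fin 2) F) := by
  have hqodd : Odd (Fintype.card F) := odd_card_of_two_ne_zero h2
  have hq5 : 5 ≤ Fintype.card F := by
    obtain ⟨t, ht⟩ := hqodd
    omega
  obtain ⟨p, hp⟩ := CharP.exists F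
  obtain ⟨m, hp', hm⟩ := FiniteField.card F p
  haveI : Fact p.Prime := ⟨hp'⟩
  have hp2 : p ≠ 2 := by
    rintro rfl
    exact h2 (by exact_mod_cast CharP.cast_eq_zero F 2)
  refine ⟨p, hp', hp2, ?_, Cfsg.Agent.S2471.result p hp2 hq5⟩
  have h := Cfsg.Agent.S0243.result (F := F) rfl 2 le_rfl
  have hT : p ∣ ∏ i : Fin 2, (Fintype.card F ^ 2 - Fintype.card F ^ (i : ℕ)) := by
    refine dvd_trans ?_ (Finset.dvd_prod_of_mem _ (Finset.mem_univ (1 : Fin 2)))
    show p ∣ Fintype.card F ^ 2 - Fintype.card F ^ 1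
    refine Nat.dvd_sub ?_ ?_
    · rw [hm, ← pow_mul]
      exact dvd_pow_self _ (Nat.mul_ne_zero (PNat.ne_zero m) two_ne_zero)
    · rw [pow_one, hm]
      exact dvd_pow_self _ (PNat.ne_zero m)
  have hnq : ¬ p ∣ Fintype.card F - 1 := by
    intro h1
    have h3 : p ∣ Fintype.card F := by rw [hm]; exact dvd_pow_self _ (PNat.ne_zero m)
    have h4 : p ∣ Fintype.card F - (Fintype.card F - 1) := Nat.dvd_sub h3 h1
    have h5 : Fintype.card F - (Fintype.card F - 1) = 1 := by omega
    rw [h5] at h4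
    exact hp'.one_lt.ne' (Nat.dvd_one.1 h4)
  rw [← h] at hT
  rcases hp'.dvd_mul.1 hT with h1 | h1
  · exact absurd (h1.trans (Nat.gcd_dvd_right _ _)) hnq
  · exact (hp'.dvd_mul.1 h1).resolve_left hnq

/-- **`PSL_n(q)`, `q` even** -/
theorem psl_far_even [Fintype F] (h2 : (2 : F) = 0) {n : ℕ} (hn : 2 ≤ n) (hsmall : n = 2 → 4 ≤ Fintype.card F) :
    Far (Matrix.ProjectiveSpecialLinearGroup (Fin n) F) := by
  haveI : CharP F 2 := CharTwo.of_one_ne_zero_of_two_eq_zero one_ne_zero h2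
  have hqe : Nat.card F = Fintype.card F := Nat.card_eq_fintype_card
  have hq2 : 2 ≤ Fintype.card F := Fintype.one_lt_card (α := F)
  have key : ∀ r k : ℕ, r.Prime → r ≠ 2 → r ∣ Nat.card (Matrix.ProjectiveSpecialLinearGroup (Fin n) F) →
      orderOf ((Nat.card F : ℕ) : ZMod r) = k → n - 2 < k → Far (Matrix.ProjectiveSpecialLinearGroup (Fin n) F) := by
    intro r k hr hr2 hd hk hnk
    refine ⟨r, hr, hr2, hd, fun g hg => ?_⟩
    refine (Cfsg.Agent.S2470.result 2 n hn hsmall r hr hr2 hr2 hd k (by rw [← hk, hqe])).2 (Or.inl hnk) ⟨g, ?_⟩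
    rw [hg, mul_comm]
  by_cases hn2 : n = 2
  · subst hn2
    have hq4 := hsmall rfl
    set r := Nat.minFac (Fintype.card F + 1) with hrdef
    have hr : r.Prime := Nat.minFac_prime (by omega)
    have hrd : r ∣ Fintype.card F + 1 := Nat.minFac_dvd _
    have h2q : 2 ∣ Fintype.card F := by
      obtain ⟨m, -, hm⟩ := FiniteField.card F 2
      rw [hm]
      exact dvd_pow_self _ (PNat.ne_zero m)
    have hr2 : r ≠ 2 := by
      intro h
      rw [h] at hrd
      omega
    have hnq : ¬ r ∣ Fintype.card F - 1 := by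
      intro h1
      have h4 : r ∣ (Fintype.card F + 1) - (Fintype.card F - 1) := Nat.dvd_sub hrd h1
      have h5 : (Fintype.card F + 1) - (Fintype.card F - 1) = 2 := by omega
      rw [h5] at h4
      exact hr2 ((Nat.prime_dvd_prime_iff_eq hr Nat.prime_two).1 h4)
    have hnF : ¬ r ∣ Fintype.card F := by
      intro h1
      have h4 : r ∣ (Fintype.card F + 1) - Fintype.card F := Nat.dvd_sub hrd h1
      rw [Nat.add_sub_cancel_left] at h4
      exact hr.one_lt.ne' (Nat.dvd_one.1 h4)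
    refine key r _ hr hr2 ?_ rfl (orderOf_card_pos (F := F) hr (natCast_ne_zero_of_not_dvd hr (by rw [hqe]; exact hnF)))
    have h := Cfsg.Agent.S0243.result (F := F) rfl 2 le_rfl
    have hT : r ∣ ∏ i : Fin 2, (Fintype.card F ^ 2 - Fintype.card F ^ (i : ℕ)) := by
      refine dvd_trans ?_ (Finset.dvd_prod_of_mem _ (Finset.mem_univ (0 : Fin 2)))
      show r ∣ Fintype.card F ^ 2 - Fintype.card F ^ 0
      have : Fintype.card F ^ 2 - Fintype.card F ^ 0 = (Fintype.card F + 1) * (Fintype.card F - 1) := by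
        rw [pow_zero]
        have := Nat.sq_sub_sq (Fintype.card F) 1
        rw [one_pow] at this
        exact this
      rw [this]
      exact dvd_mul_of_dvd_left hrd _
    rw [← h] at hT
    rcases hr.dvd_mul.1 hT with h1 | h1
    · exact absurd (h1.trans (Nat.gcd_dvd_right _ _)) hnq
    · exact (hr.dvd_mul.1 h1).resolve_left hnq
  · by_cases h6 : Fintype.card F = 2 ∧ n = 6
    · obtain ⟨r, hr, hr2, hrF, hk, hrm⟩ := exists_primitive_prime (F := F) (k := 5) (by omega) (by omega)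
      exact key r 5 hr hr2 (dvd_card_psl hn hr (by omega) (by omega) hq2 hrm) hk (by omega)
    · obtain ⟨r, hr, hr2, hrF, hk, hrm⟩ := exists_primitive_prime (F := F) (k := n) (by omega) h6
      exact key r n hr hr2 (dvd_card_psl hn hr (by omega) le_rfl hq2 hrm) hk (by omega)

theorem far_of_isPSL {G : Type*} [Group G] (h : IsPSL G) : Far G := by
  obtain ⟨F, _, _, n, hn, hsmall, ⟨e⟩⟩ := h
  refine Far.congr e.symm ?_
  by_cases h2 : (2 : F) = 0
  · exact psl_far_even h2 hn hsmall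
  · by_cases hn2 : n = 2
    · subst hn2
      exact psl_far_two h2 (hsmall rfl)
    · exact psl_far_odd h2 (by omega)

end Cfsg.Agent.H150
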