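import Mathlib
import Cfsg.Agent.H150.FarPSL
import Cfsg.Agent.ClassicalGeometry.PSUAutBasic
import Cfsg.Agent.ClassicalGeometry.HermOrtho
import Cfsg.Agent.LieClassical.HermCount
import Cfsg.Agent.S0280
import Cfsg.Agent.S0822

/-!
# An odd prime not adjacent to `2`: `PSU_n(q)` (helper150)
-/

set_option autoImplicit false
set_option linter.style.haveILetI false

namespace Cfsg.Agent.H150

open Module Cfsg
open Cfsg.Agent.S2470 (lin det_lin)
open Cfsg.Agent.LieClassical.HermBasic Cfsg.Agent.LieClassical.HermSiegel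
open Cfsg.Agent.ClassicalGeometry.PSUAutBasic (pr pr_eq_one_iff exists_scalar_of_mem_center mem_center_of_act)

variable {F : Type*} [Field F] [Fintype F] {q n : ℕ}

/-- isometry of the hermitian form -/
def HIso (q : ℕ) {n : ℕ} (x : (Fin n → F) →ₗ[F] (Fin n → F)) : Prop :=
  ∀ u v, hermForm n F q (x u) (x v) = hermForm n F q u v

omit [Fintype F] in
theorem HIso.pow {x : (Fin n → F) →ₗ[F] (Fin n → F)} (h : HIso q x) (j : ℕ) : HIso q (x ^ j) := by
  induction j with
  | zero => intro u v; rfl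
  | succ j ih => intro u v; rw [pow_succ', Module.End.mul_apply, Module.End.mul_apply, h, ih]

omit [Fintype F] in
theorem act_pow_lin (A : SU n F q) (j : ℕ) (v : Fin n → F) : act (A ^ j) v = ((lin A.1) ^ j) v := by
  induction j generalizing v with
  | zero => rw [pow_zero, pow_zero, act_one]; rfl
  | succ j ih =>
    rw [pow_succ, pow_succ, act_mul, ih]
    rfl

/-- the criterion -/
theorem psu_order_ne (hF : Fintype.card F = q ^ 2) (hn : 3 ≤ n) {r : ℕ} (hr : r.Prime)
    (hcop : (Nat.card Fˣ).Coprime r)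
    (h : ∀ x y : (Fin n → F) →ₗ[F] (Fin n → F), Commute x y → x ^ r = 1 →
      (∀ a : F, x ≠ a • (1 : Module.End F (Fin n → F))) → HIso q x → HIso q y → LinearMap.det y = 1 →
      ∀ c : F, y ^ 2 = c • (1 : Module.End F (Fin n → F)) → c ^ (q + 1) = 1 →
      ∃ a : F, y = a • (1 : Module.End F (Fin n → F)))
    (g : PSU n F q) : orderOf g ≠ 2 * r := by
  intro hg
  obtain ⟨A, rfl⟩ := QuotientGroup.mk_surjective g
  have hTj : ∀ j, (∃ c : F, (lin A.1) ^ j = c • (1 : Module.End F (Fin n → F))) ↔ 2 * r ∣ j := by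
    intro j
    rw [← hg, orderOf_dvd_iff_pow_eq_one, ← QuotientGroup.mk_pow, QuotientGroup.eq_one_iff]
    constructor
    · rintro ⟨c, hc⟩
      refine mem_center_of_act (c := c) fun v => ?_
      rw [act_pow_lin, hc]
      rfl
    · intro hz
      obtain ⟨c, -, -, hc⟩ := exists_scalar_of_mem_center hF hn hz
      refine ⟨c, LinearMap.ext fun v => ?_⟩
      rw [← act_pow_lin, hc]
      rfl
  have hdet := det_lin A.1
  have hiso : HIso q (lin A.1) := fun u v => A.2 u v
  generalize lin A.1 = T at hTj hdet hiso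
  obtain ⟨c, hc⟩ := (hTj (2 * r)).2 dvd_rfl
  haveI : Nonempty (Fin n) := ⟨⟨0, by omega⟩⟩
  have hcq : c ^ (q + 1) = 1 := by
    have h1 := hiso.pow (2 * r) (Pi.single ⟨0, by omega⟩ 1) (Pi.single ⟨0, by omega⟩ 1)
    rw [hc, LinearMap.smul_apply, Module.End.one_apply, herm_smul_left, herm_smul_right, herm_single_right hF,
      Pi.single_eq_same, one_pow, mul_one, mul_one, ← pow_succ'] at h1
    exact h1
  have hc0 : c ≠ 0 := by
    rintro rfl
    rw [zero_pow (by omega)] at hcq
    exact zero_ne_one hcq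
  set u : Fˣ := Units.mk0 c hc0 with hu
  set v : Fˣ := (powCoprime hcop).symm u with hv
  have hvr : v ^ r = u := (powCoprime hcop).apply_symm_apply u
  have hvr' : (v : F) ^ r = c := by
    have := congrArg Units.val hvr
    rwa [Units.val_pow_eq_pow_val] at this
  have hv0 : (v : F) ≠ 0 := v.ne_zero
  have hvq : v ^ (q + 1) = 1 := by
    apply (powCoprime hcop).injective
    show (v ^ (q + 1)) ^ r = (1 : Fˣ) ^ r
    rw [one_pow, ← pow_mul, mul_comm, pow_mul, hvr]
    apply Units.ext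
    rw [Units.val_pow_eq_pow_val]
    exact hcq
  have hvq' : (v : F) * (v : F) ^ q = 1 := by
    have := congrArg Units.val hvq
    rwa [Units.val_pow_eq_pow_val, pow_succ'] at this
  have hno : ∀ j, j < 2 * r → j ≠ 0 → ∀ a : F, T ^ j ≠ a • (1 : Module.End F (Fin n → F)) := by
    intro j hj hj0 a ha
    have := Nat.le_of_dvd (Nat.pos_of_ne_zero hj0) ((hTj j).1 ⟨a, ha⟩)
    omega
  have hr2' := hr.two_le
  obtain ⟨a, ha⟩ := h ((v : F)⁻¹ • T ^ 2) (T ^ r) (((Commute.refl T).pow_pow _ _).smul_left _) (by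
      rw [smul_pow, ← pow_mul, hc, smul_smul, inv_pow, hvr', inv_mul_cancel₀ hc0, one_smul]) (by
      intro a ha
      refine hno 2 (by omega) (by norm_num) ((v : F) * a) ?_
      rw [← smul_smul, ← ha, smul_smul, mul_inv_cancel₀ hv0, one_smul]) (by
      intro u w
      rw [LinearMap.smul_apply, LinearMap.smul_apply, herm_smul_left, herm_smul_right, hiso.pow 2, ← mul_assoc,
        inv_pow, ← mul_inv, hvq', inv_one, one_mul]) (hiso.pow r) (by rw [map_pow, hdet, one_pow]) c (by
      rw [← pow_mul, mul_comm r 2, hc]) hcq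
  exact hno r (by omega) hr.ne_zero a ha

/-- `[V, x]` and `C_V(x)` are orthogonal -/
theorem herm_range_fix (hF : Fintype.card F = q ^ 2) {x : (Fin n → F) →ₗ[F] (Fin n → F)} (hx : HIso q x)
    {c m : Fin n → F} (hc : x c = c) (hm : m ∈ LinearMap.range (x - 1)) : hermForm n F q m c = 0 := by
  obtain ⟨v, rfl⟩ := hm
  rw [LinearMap.sub_apply, Module.End.one_apply, herm_sub_left]
  nth_rewrite 1 [← hc]
  rw [hx, sub_self]

theorem herm_nondeg_range (hF : Fintype.card F = q ^ 2) {r : ℕ} (hrF : (r : F) ≠ 0)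
    {x : (Fin n → F) →ₗ[F] (Fin n → F)} (hx : HIso q x) (hxr : x ^ r = 1) :
    ∀ u ∈ LinearMap.range (x - 1), (∀ v ∈ LinearMap.range (x - 1), hermForm n F q u v = 0) → u = 0 := by
  intro u hu h
  apply herm_nondeg hF
  intro v
  have hcompl := isCompl_fix hrF x hxr
  obtain ⟨a, ha, b, hb, rfl⟩ := Submodule.mem_sup.1
    (show v ∈ LinearMap.ker (x - 1) ⊔ LinearMap.range (x - 1) by rw [hcompl.sup_eq_top]; trivial)
  rw [LinearMap.mem_ker, LinearMap.sub_apply, Module.End.one_apply, sub_eq_zero] at ha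
  rw [herm_add_right hF, herm_range_fix hF hx ha hu, h b hb, add_zero]

theorem herm_nondeg_ker (hF : Fintype.card F = q ^ 2) {r : ℕ} (hrF : (r : F) ≠ 0)
    {x : (Fin n → F) →ₗ[F] (Fin n → F)} (hx : HIso q x) (hxr : x ^ r = 1) :
    ∀ u ∈ LinearMap.ker (x - 1), (∀ v ∈ LinearMap.ker (x - 1), hermForm n F q u v = 0) → u = 0 := by
  intro u hu h
  apply herm_nondeg hF
  intro v
  have hcompl := isCompl_fix hrF x hxr
  obtain ⟨a, ha, b, hb, rfl⟩ := Submodule.mem_sup.1
    (show v ∈ LinearMap.ker (x - 1) ⊔ LinearMap.range (x - 1) by rw [hcompl.sup_eq_top]; trivial)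
  rw [LinearMap.mem_ker, LinearMap.sub_apply, Module.End.one_apply, sub_eq_zero] at hu
  rw [herm_add_right hF, h a ha, herm_eq_zero_swap hF (herm_range_fix hF hx hu hb), add_zero]

/-- counting vectors of norm one in a nondegenerate subspace -/
theorem count_dvd (hF : Fintype.card F = q ^ 2) {r k : ℕ} (hr : r.Prime) (U : Submodule F (Fin n → F))
    (hU : ∀ u ∈ U, (∀ v ∈ U, hermForm n F q u v = 0) → u = 0) (hk : finrank F U = k)
    {x : (Fin n → F) →ₗ[F] (Fin n → F)} (hx : HIso q x) (hxr : x ^ r = 1) (hxU : ∀ u ∈ U, x u ∈ U)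
    (hf : ∀ u ∈ U, x u = u → u = 0) (hrq : ¬ r ∣ q) : (r : ℤ) ∣ (-q : ℤ) ^ k - 1 := by
  classical
  obtain ⟨b, hbU, hb⟩ := Cfsg.Agent.ClassicalGeometry.HermOrtho.exists_orthonormal hF U hU hk
  have hexp : ∀ w ∈ U, w = ∑ i, hermForm n F q w (b i) • b i := fun w hw =>
    Cfsg.Agent.ClassicalGeometry.HermOrtho.eq_sum_of_orthonormal U (by rw [hk, Fintype.card_fin]) hbU hb hw
  have hcoord : ∀ (c : Fin k → F) (j : Fin k), hermForm n F q (∑ i, c i • b i) (b j) = c j := fun c j =>
    Cfsg.Agent.ClassicalGeometry.HermOrtho.herm_sum_smul_left hb c j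
  have hnorm : ∀ c : Fin k → F, hermForm n F q (∑ i, c i • b i) (∑ i, c i • b i) = hermForm k F q c c := by
    intro c
    rw [herm_sum_right hF, herm_def]
    refine Finset.sum_congr rfl fun j _ => ?_
    rw [herm_smul_right, hcoord, mul_comm]
  let S := {v : Fin n → F // v ∈ U ∧ hermForm n F q v v = 1}
  have hS : Nat.card S = Nat.card {v : Fin k → F // hermForm k F q v v = 1} := by
    refine Nat.card_congr ?_
    refine
      { toFun := fun v => ⟨fun i => hermForm n F q v.1 (b i), ?_⟩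
        invFun := fun c => ⟨∑ i, c.1 i • b i, Submodule.sum_mem _ fun i _ => Submodule.smul_mem _ _ (hbU i), ?_⟩
        left_inv := ?_
        right_inv := ?_ }
    · rw [← hnorm, ← hexp v.1 v.2.1]
      exact v.2.2
    · rw [hnorm]
      exact c.2
    · intro v
      exact Subtype.ext (hexp v.1 v.2.1).symm
    · intro c
      exact Subtype.ext (funext fun j => hcoord c.1 j)
  haveI : Fact r.Prime := ⟨hr⟩
  haveI : Fintype S := Fintype.ofFinite S
  let f : Function.End S := fun v => ⟨x v.1, hxU _ v.2.1, by rw [hx]; exact v.2.2⟩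
  have hfj : ∀ (j : ℕ) (v : S), ((f ^ j) v).1 = (x ^ j) v.1 := by
    intro j
    induction j with
    | zero => intro v; rfl
    | succ j ih =>
      intro v
      rw [pow_succ', pow_succ']
      show x ((f ^ j) v).1 = x ((x ^ j) v.1)
      rw [ih]
  have hfr : f ^ r ^ 1 = 1 := by
    funext v
    apply Subtype.ext
    rw [pow_one, hfj, hxr]
    rfl
  have hmod := Equiv.Perm.card_fixedPoints_modEq (p := r) (n := 1) hfr
  have hfix : Fintype.card (Function.fixedPoints f) = 0 := by
    rw [Fintype.card_eq_zero_iff]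
    refine ⟨fun v => ?_⟩
    have h1 : x v.1.1 = v.1.1 := congrArg Subtype.val v.2
    have h3 := hf _ v.1.2.1 h1
    have h4 := v.1.2.2
    rw [h3, herm_zero_left] at h4
    exact zero_ne_one h4
  rw [hfix, ← Nat.card_eq_fintype_card, hS] at hmod
  have hdvd : r ∣ Nat.card {v : Fin k → F // hermForm k F q v v = 1} := (Nat.modEq_zero_iff_dvd).1 hmod
  have hcount := Cfsg.Agent.LieClassical.HermCount.card_herm_eq hF k (c := (1 : F)) (one_pow q) one_ne_zero
  have h1 : (r : ℤ) ∣ (q : ℤ) ^ (2 * k) - (-q : ℤ) ^ k := by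
    rw [← hcount]
    exact dvd_mul_of_dvd_right (by exact_mod_cast hdvd) _
  have h2 : (q : ℤ) ^ (2 * k) - (-q : ℤ) ^ k = (-q : ℤ) ^ k * ((-q : ℤ) ^ k - 1) := by
    rw [mul_sub, ← pow_add, mul_one, ← two_mul, Even.neg_pow (even_two_mul k)]
  rw [h2] at h1
  have hrp : Prime (r : ℤ) := Nat.prime_iff_prime_int.1 hr
  refine (hrp.dvd_or_dvd h1).resolve_left fun h3 => hrq ?_
  have h4 := hrp.dvd_of_dvd_pow h3
  rw [dvd_neg] at h4
  exact_mod_cast h4

/-- `n` odd, `k = n` -/
theorem psu_full (hF : Fintype.card F = q ^ 2) (hn : 3 ≤ n) (hodd : Odd n) {r : ℕ} (hr : r.Prime)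
    (hrF : (r : F) ≠ 0) (hk : orderOf ((Nat.card F : ℕ) : ZMod r) = n) (g : PSU n F q) : orderOf g ≠ 2 * r := by
  refine psu_order_ne hF hn hr (coprime_units_of_orderOf hr (by omega)) ?_ g
  intro x y hcomm hx hxs hxi hyi hdet c hy hcq
  haveI : Nonempty (Fin n) := ⟨⟨0, by omega⟩⟩
  have hx1 : x ≠ 1 := fun h => hxs 1 (by rw [h, one_smul])
  have hxM := (range_inv (x := x) (y := x) (fun v => rfl)).1
  have h1 := dvd_finrank_of_fpf_submodule hr x hx _ hxM (fpf_range hrF x hx)
  rw [hk] at h1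
  have hdim : finrank F (Fin n → F) = n := finrank_fin_fun F
  have hM := finrank_range_le_of_dvd hx1 h1 hdim (by omega)
  have hf := fpf_of_dim hrF x hx (hM.trans hdim.symm)
  have hirr := irr_of_dvd hr x hx hf (by rw [hk, hdim])
  have hcn : c ^ n = 1 := by
    have h3 : LinearMap.det (y ^ 2) = 1 := by rw [map_pow, hdet, one_pow]
    have e2 : LinearMap.det (1 : Module.End F (Fin n → F)) = 1 := LinearMap.det_id
    rw [hy, LinearMap.det_smul, hdim, e2, mul_one] at h3
    exact h3
  obtain ⟨t, ht⟩ := hodd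
  have hsq : c = (c ^ (t + 1)) ^ 2 := by
    rw [← pow_mul, show (t + 1) * 2 = n + 1 by omega, pow_succ, hcn, one_mul]
  rw [hsq] at hy
  rcases irr_eq_one_or x y hcomm hirr hy with h | h
  · exact ⟨_, h⟩
  · exact ⟨_, h⟩

/-- `n` even, `k = n - 1` -/
theorem psu_partial (hF : Fintype.card F = q ^ 2) (hn : 4 ≤ n) (hev : Even n) {r : ℕ} (hr : r.Prime)
    (hrF : (r : F) ≠ 0) (hk : orderOf ((Nat.card F : ℕ) : ZMod r) = n - 1)
    (hor : (2 : F) = 0 ∨ ∃ u w j : ℕ, Odd w ∧ q + 1 = 2 ^ u * w ∧ n = 2 ^ u * j)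
    (g : PSU n F q) : orderOf g ≠ 2 * r := by
  refine psu_order_ne hF (by omega) hr (coprime_units_of_orderOf hr (by omega)) ?_ g
  intro x y hcomm hx hxs hxi hyi hdet c hy hcq
  haveI : Nonempty (Fin n) := ⟨⟨0, by omega⟩⟩
  have hxy : ∀ v, x (y v) = y (x v) := fun v => LinearMap.congr_fun hcomm.eq v
  have hx1 : x ≠ 1 := fun h => hxs 1 (by rw [h, one_smul])
  have hxM := (range_inv (x := x) (y := x) (fun v => rfl)).1
  have h1 := dvd_finrank_of_fpf_submodule hr x hx _ hxM (fpf_range hrF x hx)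
  rw [hk] at h1
  have hdim : finrank F (Fin n → F) = n := finrank_fin_fun F
  have hM := finrank_range_le_of_dvd hx1 h1 hdim (by omega)
  have hcompl := isCompl_fix hrF x hx
  have hsum := Submodule.finrank_add_eq_of_isCompl hcompl
  have hyM := (range_inv hxy).1
  have hyC := (range_inv hxy).2
  have hfpf := fpf_range hrF x hx
  have hC : finrank F (LinearMap.ker (x - 1)) = 1 := by omega
  have hCnd := herm_nondeg_ker hF hrF hxi hx
  -- `y` is a scalar on `C`
  obtain ⟨v₀, hv₀, hspan⟩ := finrank_eq_one_iff'.1 hC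
  have hv₀' : (v₀ : Fin n → F) ≠ 0 := fun h => hv₀ (Subtype.ext h)
  obtain ⟨b, hb⟩ : ∃ b : F, ∀ v ∈ LinearMap.ker (x - 1), y v = b • v := by
    obtain ⟨b, hb⟩ := hspan ⟨y v₀, hyC v₀ v₀.2⟩
    refine ⟨b, fun v hv => ?_⟩
    obtain ⟨d, hd⟩ := hspan ⟨v, hv⟩
    have e1 : v = d • (v₀ : Fin n → F) := (congrArg Subtype.val hd).symm
    have e2 : y v₀ = b • (v₀ : Fin n → F) := (congrArg Subtype.val hb).symm
    rw [e1, map_smul, e2, smul_comm]
  have hv₀h : hermForm n F q (v₀ : Fin n → F) v₀ ≠ 0 := by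
    intro h0
    apply hv₀'
    apply hCnd _ v₀.2
    intro v hv
    obtain ⟨d, hd⟩ := hspan ⟨v, hv⟩
    have e1 : v = d • (v₀ : Fin n → F) := (congrArg Subtype.val hd).symm
    rw [e1, herm_smul_right, h0, mul_zero]
  have hbq : b ^ (q + 1) = 1 := by
    have h3 := hyi v₀ v₀
    rw [hb v₀ v₀.2, herm_smul_left, herm_smul_right, ← mul_assoc, ← pow_succ'] at h3
    exact mul_right_cancel₀ hv₀h (by rw [h3, one_mul])
  have hcb : c = b ^ 2 := by
    have e1 : y (y v₀) = c • (v₀ : Fin n → F) := LinearMap.congr_fun hy v₀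
    rw [hb v₀ v₀.2, map_smul, hb v₀ v₀.2, smul_smul] at e1
    have e2 : (b * b - c) • (v₀ : Fin n → F) = 0 := by rw [sub_smul, e1, sub_self]
    have := (smul_eq_zero.1 e2).resolve_right hv₀'
    rw [sq]
    exact (sub_eq_zero.1 this).symm
  subst hcb
  set C := LinearMap.ker (x - 1) with hCdef
  set M := LinearMap.range (x - 1) with hMdef
  haveI : Nontrivial M := Module.nontrivial_of_finrank_pos (R := F) (by omega)
  have hf' : ∀ v : M, x.restrict hxM v = v → v = 0 := fun v hv =>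
    Subtype.ext (hfpf v v.2 (congrArg Subtype.val hv))
  have hirr := irr_of_dvd hr (x.restrict hxM) (restrict_pow_eq_one hxM hx) hf' (by rw [hM, hk])
  have hres := irr_eq_one_or (x.restrict hxM) (y.restrict hyM) (LinearMap.ext fun v => Subtype.ext (hxy v)) hirr
    (a := b) (LinearMap.ext fun v => Subtype.ext (LinearMap.congr_fun hy v))
  have hdec : ∀ v : Fin n → F, ∃ a ∈ C, ∃ b ∈ M, v = a + b := by
    intro v
    obtain ⟨a, ha, b, hb, rfl⟩ := Submodule.mem_sup.1
      (show v ∈ C ⊔ M by rw [hcompl.sup_eq_top]; trivial)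
    exact ⟨a, ha, b, hb, rfl⟩
  have hgood : y.restrict hyM = b • (1 : Module.End F M) → ∃ a : F, y = a • (1 : Module.End F (Fin n → F)) := by
    intro h
    refine ⟨b, LinearMap.ext fun v => ?_⟩
    obtain ⟨v1, hv1, v2, hv2, rfl⟩ := hdec v
    rw [map_add, hb v1 hv1, LinearMap.smul_apply, Module.End.one_apply, smul_add]
    have e1 : y v2 = b • v2 := congrArg Subtype.val (LinearMap.congr_fun h ⟨v2, hv2⟩)
    rw [e1]
  rcases hres with h | h
  · exact hgood h
  · rcases hor with h2 | ⟨u, w, j, hw, hq, hn'⟩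
    · apply hgood
      rw [h]
      congr 1
      have : b + b = 0 := by rw [← two_mul, h2, zero_mul]
      exact neg_eq_of_add_eq_zero_left this
    by_cases h2 : (2 : F) = 0
    · apply hgood
      rw [h]
      congr 1
      have : b + b = 0 := by rw [← two_mul, h2, zero_mul]
      exact neg_eq_of_add_eq_zero_left this
    exfalso
    -- the determinant
    have hyM2 : ∀ v ∈ M, y v = (-b) • v := fun v hv =>
      congrArg Subtype.val (LinearMap.congr_fun h ⟨v, hv⟩)
    have hd := LinearMap.det_eq_det_mul_det C y hyC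
    have hq' : C.mapQ C y hyC = (-b) • (1 : Module.End F ((Fin n → F) ⧸ C)) := by
      apply LinearMap.ext
      intro v
      obtain ⟨v, rfl⟩ := Submodule.mkQ_surjective C v
      obtain ⟨a1, ha1, b1, hb1, rfl⟩ := hdec v
      have e1 : C.mkQ (a1 + b1) = C.mkQ b1 := by
        rw [map_add]
        have : C.mkQ a1 = 0 := (Submodule.Quotient.mk_eq_zero C).2 ha1
        rw [this, zero_add]
      rw [e1]
      show C.mkQ (y b1) = _
      rw [hyM2 b1 hb1, map_smul]
      rfl
    have hfr : finrank F ((Fin n → F) ⧸ C) = n - 1 := by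
      have h1 := Submodule.finrank_quotient_add_finrank C
      omega
    have e2 : LinearMap.det (1 : Module.End F ((Fin n → F) ⧸ C)) = 1 := LinearMap.det_id
    have hrC : y.restrict hyC = b • (1 : Module.End F C) :=
      LinearMap.ext fun v => Subtype.ext (hb v v.2)
    have e3 : LinearMap.det (1 : Module.End F C) = 1 := LinearMap.det_id
    rw [hdet, hq', hrC, LinearMap.det_smul, LinearMap.det_smul, hfr, hC, e2, e3, mul_one, mul_one, pow_one] at hd
    have hodd : Odd (n - 1) := by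
      obtain ⟨t, ht⟩ := hev
      exact ⟨t - 1, by omega⟩
    rw [hodd.neg_pow, mul_neg, ← pow_succ', Nat.sub_add_cancel (by omega)] at hd
    have hbn : b ^ n = -1 := by rw [hd, neg_neg]
    have h5 : (b ^ n) ^ w = 1 := by
      rw [← pow_mul, hn', show 2 ^ u * j * w = (2 ^ u * w) * j by ring, pow_mul, ← hq, hbq, one_pow]
    rw [hbn, hw.neg_one_pow] at h5
    have : (2 : F) = 0 := by
      have : (1 : F) + 1 = 0 := by nth_rewrite 1 [← h5]; exact neg_add_cancel 1
      rwa [one_add_one_eq_two] at this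
    exact h2 this

end Cfsg.Agent.H150
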