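import Mathlib
import Cfsg.Agent.H150.FarPSU

/-!
# An odd prime not adjacent to `2`: `PSU_n(q)`, second part (helper150)
-/

set_option autoImplicit false
set_option linter.style.haveILetI false

namespace Cfsg.Agent.H150

open Module Cfsg
open Cfsg.Agent.LieClassical.HermBasic Cfsg.Agent.LieClassical.HermSiegel

variable {F : Type*} [Field F] [Fintype F] {q n : ℕ}

/-- `n = 2 k`, `-q` of order `n` modulo `r` -/
theorem psu_two (hF : Fintype.card F = q ^ 2) (h2 : (2 : F) ≠ 0) {k : ℕ} (hnk : n = 2 * k) (hk2 : 2 ≤ k) {r : ℕ}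
    (hr : r.Prime) (hrF : (r : F) ≠ 0) (hrq : ¬ r ∣ q) (hk : orderOf ((Nat.card F : ℕ) : ZMod r) = k)
    (hqk : ¬ (r : ℤ) ∣ (-q : ℤ) ^ k - 1) {t m s : ℕ} (hnm : n = 2 ^ t * m) (hm : Odd m) (hqs : q + 1 = 2 ^ (t + 1) * s)
    (g : PSU n F q) : orderOf g ≠ 2 * r := by
  have hq2 := two_le hF
  have hqodd : Odd q := by
    rw [← Nat.not_even_iff_odd]
    rintro ⟨a, ha⟩
    have : 2 ^ (t + 1) * s = 2 * (2 ^ t * s) := by ring
    omega
  refine psu_order_ne hF (by omega) hr (coprime_units_of_orderOf hr (by omega)) ?_ g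
  intro x y hcomm hx hxs hxi hyi hdet c hy hcq
  haveI : Nonempty (Fin n) := ⟨⟨0, by omega⟩⟩
  have hxy : ∀ v, x (y v) = y (x v) := fun v => LinearMap.congr_fun hcomm.eq v
  have hx1 : x ≠ 1 := fun h => hxs 1 (by rw [h, one_smul])
  have hxM := (range_inv (x := x) (y := x) (fun v => rfl)).1
  have h1 := dvd_finrank_of_fpf_submodule hr x hx _ hxM (fpf_range hrF x hx)
  rw [hk] at h1
  have hdim : finrank F (Fin n → F) = n := finrank_fin_fun F
  have hcount : ∀ U : Submodule F (Fin n → F), (∀ u ∈ U, (∀ v ∈ U, hermForm n F q u v = 0) → u = 0) →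
      finrank F U = k → (∀ u ∈ U, x u ∈ U) → (∀ u ∈ U, x u = u → u = 0) → False := fun U hU hUk hxU hfU =>
    hqk (count_dvd hF hr U hU hUk hxi hx hxU hfU hrq)
  have hmul : ∀ d : ℕ, k ∣ d → d ≤ n → d = 0 ∨ d = k ∨ d = n := by
    rintro d ⟨a, rfl⟩ hd
    have ha : a ≤ 2 := by
      by_contra hcon
      have h3 : 3 ≤ a := by omega
      have h4 : k * 3 ≤ k * a := Nat.mul_le_mul_left k h3
      omega
    interval_cases a
    · left; rfl
    · right; left; ring
    · right; right; omega
  -- `[V, x] = V`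
  have hMV : finrank F (LinearMap.range (x - 1)) = finrank F (Fin n → F) := by
    rw [hdim]
    have hle := Submodule.finrank_le (LinearMap.range (x - 1))
    rw [hdim] at hle
    rcases hmul _ h1 hle with h | h | h
    · exfalso
      have := Submodule.finrank_eq_zero.1 h
      rw [LinearMap.range_eq_bot, sub_eq_zero] at this
      exact hx1 this
    · exact (hcount _ (herm_nondeg_range hF hrF hxi hx) h hxM (fpf_range hrF x hx)).elim
    · exact h
  have hf := fpf_of_dim hrF x hx hMV
  have hinvdim : ∀ U : Submodule F (Fin n → F), (∀ u ∈ U, x u ∈ U) →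
      U = ⊥ ∨ finrank F U = k ∨ U = ⊤ := by
    intro U hU
    have h3 := dvd_finrank_of_fpf_submodule hr x hx U hU (fun v _ h => hf v h)
    rw [hk] at h3
    have hle := Submodule.finrank_le U
    rw [hdim] at hle
    rcases hmul _ h3 hle with h | h | h
    · left; exact Submodule.finrank_eq_zero.1 h
    · right; left; exact h
    · right; right; exact Submodule.eq_top_of_finrank_eq (by rw [h, hdim])
  -- `c = μ ^ 2`
  have hchar : ringChar F ≠ 2 := by
    intro h
    apply h2
    have := ringChar.Nat.cast_ringChar (R := F)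
    rw [h] at this
    exact_mod_cast this
  have hc0 : c ≠ 0 := by
    rintro rfl
    rw [zero_pow (by omega)] at hcq
    exact zero_ne_one hcq
  obtain ⟨μ, hμ⟩ : ∃ μ : F, c = μ ^ 2 := by
    have hsq : IsSquare c := by
      rw [FiniteField.isSquare_iff hchar hc0, hF]
      obtain ⟨a, ha⟩ := hqodd
      have : q ^ 2 / 2 = (q + 1) * a := by
        have : q ^ 2 = 2 * ((q + 1) * a) + 1 := by rw [ha]; ring
        omega
      rw [this, pow_mul, hcq, one_pow]
    obtain ⟨a, ha⟩ := hsq
    exact ⟨a, by rw [ha, sq]⟩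
  subst hμ
  have hμ0 : μ ≠ 0 := by
    rintro rfl
    exact hc0 (by rw [zero_pow two_ne_zero])
  have hneg : ∀ v : Fin n → F, -v = v → v = 0 := by
    intro v hv
    have h5 : (2 : F) • v = 0 := by
      rw [two_smul]
      nth_rewrite 1 [← hv]
      exact neg_add_cancel v
    exact (smul_eq_zero.1 h5).resolve_left h2
  have hone : (-1 : F) ≠ 1 := by
    intro h
    apply h2
    have : (1 : F) + 1 = 0 := by nth_rewrite 1 [← h]; exact neg_add_cancel 1
    rwa [one_add_one_eq_two] at this
  -- the eigenspaces of `y`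
  have hyy : ∀ v, y (y v) = μ ^ 2 • v := fun v => LinearMap.congr_fun hy v
  set U := LinearMap.ker (y - μ • (1 : Module.End F (Fin n → F))) with hUdef
  set W := LinearMap.ker (y + μ • (1 : Module.End F (Fin n → F))) with hWdef
  have hUmem : ∀ v, v ∈ U ↔ y v = μ • v := fun v => by
    rw [hUdef, LinearMap.mem_ker, LinearMap.sub_apply, LinearMap.smul_apply, Module.End.one_apply, sub_eq_zero]
  have hWmem : ∀ v, v ∈ W ↔ y v = -(μ • v) := fun v => by
    rw [hWdef, LinearMap.mem_ker, LinearMap.add_apply, LinearMap.smul_apply, Module.End.one_apply,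
      add_eq_zero_iff_eq_neg]
  have hUx : ∀ u ∈ U, x u ∈ U := by
    intro u hu
    rw [hUmem] at hu ⊢
    rw [← hxy, hu, map_smul]
  have hWx : ∀ u ∈ W, x u ∈ W := by
    intro u hu
    rw [hWmem] at hu ⊢
    rw [← hxy, hu, map_neg, map_smul]
  have hdec : ∀ v : Fin n → F, ∃ a ∈ U, ∃ b ∈ W, v = a + b := by
    intro v
    have e1 : ∀ v : Fin n → F, μ⁻¹ • μ ^ 2 • v = μ • v := fun v => by
      rw [smul_smul, sq, ← mul_assoc, inv_mul_cancel₀ hμ0, one_mul]
    have e2 : μ • μ⁻¹ • y v = y v := by rw [smul_smul, mul_inv_cancel₀ hμ0, one_smul]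
    refine ⟨(2 : F)⁻¹ • (v + μ⁻¹ • y v), ?_, (2 : F)⁻¹ • (v - μ⁻¹ • y v), ?_, ?_⟩
    · rw [hUmem, map_smul, map_add, map_smul, hyy, e1 v, smul_comm μ (2 : F)⁻¹, smul_add μ, e2, add_comm]
    · rw [hWmem, map_smul, map_sub, map_smul, hyy, e1 v, smul_comm μ (2 : F)⁻¹, smul_sub μ, e2, ← smul_neg, neg_sub]
    · rw [← smul_add, add_add_sub_cancel, ← two_smul F v, smul_smul, inv_mul_cancel₀ h2, one_smul]
  rcases hinvdim U hUx with hU | hUk | hU
  · refine ⟨-μ, LinearMap.ext fun v => ?_⟩
    obtain ⟨a, ha, b, hb, rfl⟩ := hdec v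
    rw [hU, Submodule.mem_bot] at ha
    rw [ha, zero_add, (hWmem b).1 hb, LinearMap.smul_apply, Module.End.one_apply, neg_smul]
  · exfalso
    have hWk : finrank F W = k := by
      rcases hinvdim W hWx with h | h | h
      · exfalso
        have : U = ⊤ := by
          rw [eq_top_iff]
          intro v _
          obtain ⟨a, ha, b, hb, rfl⟩ := hdec v
          rw [h, Submodule.mem_bot] at hb
          rw [hb, add_zero]
          exact ha
        rw [this, finrank_top, hdim] at hUk
        omega
      · exact h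
      · exfalso
        have : U = ⊥ := by
          rw [eq_bot_iff]
          intro v hv
          have h3 := (hWmem v).1 (by rw [h]; trivial)
          rw [(hUmem v).1 hv] at h3
          have h4 := hneg _ h3.symm
          exact (smul_eq_zero.1 h4).resolve_left hμ0
        rw [this, finrank_bot] at hUk
        omega
    have hμq2 : μ ^ (q + 1) * μ ^ (q + 1) = 1 := by
      rw [← hcq]; ring
    rcases mul_self_eq_one_iff.1 hμq2 with hμq | hμq
    · -- nondegenerate eigenspaces
      refine hcount U ?_ hUk hUx (fun u _ h => hf u h)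
      intro u hu h
      apply herm_nondeg hF
      intro v
      obtain ⟨a, ha, b, hb, rfl⟩ := hdec v
      rw [herm_add_right hF, h a ha, zero_add]
      have h3 := hyi u b
      rw [(hUmem u).1 hu, (hWmem b).1 hb, herm_neg_right hF, herm_smul_left, herm_smul_right, ← mul_assoc,
        ← pow_succ', hμq, one_mul] at h3
      have h5 : (2 : F) * hermForm n F q u b = 0 := by
        rw [two_mul]
        nth_rewrite 1 [← h3]
        exact neg_add_cancel _
      exact (mul_eq_zero.1 h5).resolve_left h2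
    · -- totally isotropic eigenspaces
      have hyU : ∀ v ∈ U, y v ∈ U := by
        intro v hv
        rw [(hUmem v).1 hv]
        exact Submodule.smul_mem _ _ hv
      have hd := LinearMap.det_eq_det_mul_det U y hyU
      have hq' : U.mapQ U y hyU = (-μ) • (1 : Module.End F ((Fin n → F) ⧸ U)) := by
        apply LinearMap.ext
        intro v
        obtain ⟨v, rfl⟩ := Submodule.mkQ_surjective U v
        obtain ⟨a1, ha1, b1, hb1, rfl⟩ := hdec v
        have e1 : U.mkQ (a1 + b1) = U.mkQ b1 := by
          rw [map_add]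
          have : U.mkQ a1 = 0 := (Submodule.Quotient.mk_eq_zero U).2 ha1
          rw [this, zero_add]
        rw [e1]
        show U.mkQ (y b1) = _
        rw [(hWmem b1).1 hb1, ← neg_smul, map_smul]
        rfl
      have hfr : finrank F ((Fin n → F) ⧸ U) = k := by
        have h1 := Submodule.finrank_quotient_add_finrank U
        omega
      have e2 : LinearMap.det (1 : Module.End F ((Fin n → F) ⧸ U)) = 1 := LinearMap.det_id
      have hrU : y.restrict hyU = μ • (1 : Module.End F U) :=
        LinearMap.ext fun v => Subtype.ext ((hUmem v).1 v.2)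
      have e3 : LinearMap.det (1 : Module.End F U) = 1 := LinearMap.det_id
      rw [hdet, hq', hrU, LinearMap.det_smul, LinearMap.det_smul, hfr, hUk, e2, e3, mul_one, mul_one] at hd
      have h4 : μ ^ (2 * n) = 1 := by
        have h5 : (μ ^ k * (-μ) ^ k) ^ 2 = 1 := by rw [← hd, one_pow]
        rw [mul_pow, ← pow_mul, ← pow_mul, Even.neg_pow ⟨k, by ring⟩, ← pow_add] at h5
        rw [hnk]
        convert h5 using 2
        ring
      have h5 : (μ ^ (q + 1)) ^ m = 1 := by
        have e1 : (q + 1) * m = (2 * n) * s := by rw [hqs, hnm]; ring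
        rw [← pow_mul, e1, pow_mul, h4, one_pow]
      rw [hμq, hm.neg_one_pow] at h5
      exact hone h5
  · refine ⟨μ, LinearMap.ext fun v => ?_⟩
    have := (hUmem v).1 (by rw [hU]; trivial)
    rw [this]
    rfl

/-- `r` divides `|PSU_n(q)|` -/
theorem dvd_card_psu (hF : Fintype.card F = q ^ 2) (hn : 2 ≤ n) {r : ℕ} (hr : r.Prime) (hrq : ¬ r ∣ q + 1) {i : ℕ}
    (hi : i < n) (hd : r ∣ (if Even i then q ^ (i + 1) + 1 else q ^ (i + 1) - 1)) : r ∣ Nat.card (PSU n F q) := by
  have h := Cfsg.Agent.S0280.result (F := F) hF n hn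
  have hT : r ∣ q ^ (n * (n - 1) / 2) * ∏ i ∈ Finset.range n, (if Even i then q ^ (i + 1) + 1 else q ^ (i + 1) - 1) :=
    dvd_mul_of_dvd_right (hd.trans (Finset.dvd_prod_of_mem
      (fun i : ℕ => (if Even i then q ^ (i + 1) + 1 else q ^ (i + 1) - 1)) (Finset.mem_range.2 hi))) _
  rw [← h] at hT
  rcases hr.dvd_mul.1 hT with h1 | h1
  · exact absurd (h1.trans (Nat.gcd_dvd_right _ _)) hrq
  · exact (hr.dvd_mul.1 h1).resolve_left hrq

theorem orderOf_card_sq (hF : Fintype.card F = q ^ 2) {r e k : ℕ} (hq : 1 ≤ q) (h : ∀ m, r ∣ q ^ m - 1 ↔ e ∣ m)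
    (hk : ∀ m, e ∣ 2 * m ↔ k ∣ m) : orderOf ((Nat.card F : ℕ) : ZMod r) = k := by
  rw [Nat.card_eq_fintype_card, hF]
  refine orderOf_eq_of_primitive (Nat.one_le_pow _ _ hq) fun m => ?_
  rw [← pow_mul, h, hk]

theorem not_dvd_add_one {r e : ℕ} (h : ∀ m, r ∣ q ^ m - 1 ↔ e ∣ m) (he : 3 ≤ e) : ¬ r ∣ q + 1 := by
  intro h1
  have h3 : r ∣ q ^ 2 - 1 := by
    have : q ^ 2 - 1 = (q + 1) * (q - 1) := by
      have := Nat.sq_sub_sq q 1
      rw [one_pow] at this
      exact this
    rw [this]
    exact dvd_mul_of_dvd_left h1 _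
  have := Nat.le_of_dvd two_pos ((h 2).1 h3)
  omega

theorem prime_ne_two {r e : ℕ} (hd : e ∣ r - 1) (hr : r.Prime) (he : 3 ≤ e) : r ≠ 2 := by
  rintro rfl
  have := Nat.le_of_dvd (by norm_num) hd
  omega

/-- **`PSU_n(q)`** -/
theorem psu_far (hF : Fintype.card F = q ^ 2) (hn : 3 ≤ n) (hex : ¬ (n = 3 ∧ q = 2)) : Far (PSU n F q) := by
  have hq2 := two_le hF
  have hrF : ∀ {r : ℕ}, r.Prime → ¬ r ∣ q → (r : F) ≠ 0 := by
    intro r hr hrq
    refine natCast_ne_zero_of_not_dvd hr ?_
    rw [Nat.card_eq_fintype_card, hF]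
    exact fun h => hrq (hr.dvd_of_dvd_pow h)
  rcases Nat.even_or_odd n with hev | hodd
  · have hn4 : 4 ≤ n := by
      obtain ⟨a, ha⟩ := hev
      omega
    -- the case `k = n - 1`
    have hpart : ((2 : F) = 0 ∨ ∃ u w j : ℕ, Odd w ∧ q + 1 = 2 ^ u * w ∧ n = 2 ^ u * j) →
        ¬ (q = 2 ∧ 2 * (n - 1) = 6) → Far (PSU n F q) := by
      intro hor h6
      obtain ⟨r, hr, hrm, hrd, hrq⟩ := Cfsg.Agent.Lib.Zsigmondy.exists_primitive (a := q) (n := 2 * (n - 1))
        hq2 (by omega) (by omega) h6
      refine ⟨r, hr, prime_ne_two hrd hr (by omega),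
        dvd_card_psu hF (by omega) hr (not_dvd_add_one hrm (by omega)) (i := n - 2) (by omega) ?_,
        psu_partial hF hn4 hev hr (hrF hr hrq)
          (orderOf_card_sq hF (by omega) hrm fun m => Nat.mul_dvd_mul_iff_left two_pos) hor⟩
      have hev2 : Even (n - 2) := by
        obtain ⟨a, ha⟩ := hev
        exact ⟨a - 1, by omega⟩
      rw [if_pos hev2, show n - 2 + 1 = n - 1 by omega]
      exact dvd_pow_add_one_of_primitive hr (by omega) hrm
    by_cases h2 : (2 : F) = 0
    · by_cases h6 : q = 2 ∧ 2 * (n - 1) = 6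
      · have hn4' : n = 4 := by omega
        obtain ⟨rfl, -⟩ := h6
        subst hn4'
        obtain ⟨e⟩ := Cfsg.Agent.S0822.result (F := F) (K := ZMod 3) (by rw [hF]; rfl) (ZMod.card 3)
        exact Far.congr e.symm (psp_far (F := ZMod 3) le_rfl (fun _ => by rw [ZMod.card]))
      · exact hpart (Or.inl h2) h6
    · -- `q` odd
      have hqodd : Odd q := by
        have h3 := odd_card_of_two_ne_zero h2
        rw [hF] at h3
        rw [← Nat.not_even_iff_odd] at h3 ⊢
        exact fun h => h3 (h.pow_of_ne_zero two_ne_zero)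
      obtain ⟨t, m, hm, hnm⟩ := Nat.exists_eq_two_pow_mul_odd (n := n) (by omega)
      obtain ⟨u, w, hw, hqu⟩ := Nat.exists_eq_two_pow_mul_odd (n := q + 1) (by omega)
      by_cases htu : t + 1 ≤ u
      · have hqs : q + 1 = 2 ^ (t + 1) * (2 ^ (u - (t + 1)) * w) := by
          rw [← mul_assoc, ← pow_add, Nat.add_sub_cancel' htu]
          exact hqu
        obtain ⟨k, hk⟩ := hev.two_dvd
        have hodd1 : ¬ Even (n - 1) := by
          rw [Nat.not_even_iff_odd]
          exact ⟨k - 1, by omega⟩
        rcases Nat.even_or_odd k with hkev | hkodd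
        · -- `n = 0` modulo `4`
          obtain ⟨r, hr, hrm, hrd, hrq⟩ := Cfsg.Agent.Lib.Zsigmondy.exists_primitive (a := q) (n := n)
            hq2 (by omega) (by omega) (by
              rintro ⟨rfl, -⟩
              exact absurd hqodd (by decide))
          have hr2 := prime_ne_two hrd hr (by omega)
          refine ⟨r, hr, hr2,
            dvd_card_psu hF (by omega) hr (not_dvd_add_one hrm (by omega)) (i := n - 1) (by omega) ?_,
            psu_two hF h2 hk (by omega) hr (hrF hr hrq) hrq
              (orderOf_card_sq hF (by omega) hrm fun m => by rw [hk, Nat.mul_dvd_mul_iff_left two_pos]) ?_ hnm hm hqs⟩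
          · rw [if_neg hodd1, show n - 1 + 1 = n by omega]
            exact (hrm n).2 dvd_rfl
          · rw [hkev.neg_pow]
            intro h
            have h3 : r ∣ q ^ k - 1 := by
              have : ((q ^ k - 1 : ℕ) : ℤ) = (q : ℤ) ^ k - 1 := by
                rw [Nat.cast_sub (Nat.one_le_pow _ _ (by omega))]
                push_cast
                rfl
              rw [← this] at h
              exact_mod_cast h
            have := Nat.le_of_dvd (by omega) ((hrm k).1 h3)
            omega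
        · -- `n = 2` modulo `4`
          have hk3 : 3 ≤ k := by
            obtain ⟨a, ha⟩ := hkodd
            omega
          obtain ⟨r, hr, hrm, hrd, hrq⟩ := Cfsg.Agent.Lib.Zsigmondy.exists_primitive (a := q) (n := k)
            hq2 (by omega) (by omega) (by
              rintro ⟨rfl, -⟩
              exact absurd hqodd (by decide))
          have hr2 := prime_ne_two hrd hr hk3
          refine ⟨r, hr, hr2,
            dvd_card_psu hF (by omega) hr (not_dvd_add_one hrm (by omega)) (i := n - 1) (by omega) ?_,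
            psu_two hF h2 hk (by omega) hr (hrF hr hrq) hrq
              (orderOf_card_sq hF (by omega) hrm fun m =>
                (Nat.Coprime.dvd_mul_left (Nat.coprime_two_right.2 hkodd))) ?_ hnm hm hqs⟩
          · rw [if_neg hodd1, show n - 1 + 1 = n by omega, hrm, hk]
            exact Dvd.intro_left 2 rfl
          · rw [hkodd.neg_pow]
            intro h
            have h3 : r ∣ q ^ k - 1 := (hrm k).2 dvd_rfl
            have h4 : (r : ℤ) ∣ (q : ℤ) ^ k - 1 := by
              have : ((q ^ k - 1 : ℕ) : ℤ) = (q : ℤ) ^ k - 1 := by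
                rw [Nat.cast_sub (Nat.one_le_pow _ _ (by omega))]
                push_cast
                rfl
              rw [← this]
              exact_mod_cast h3
            have h5 : (r : ℤ) ∣ 2 := by
              have := dvd_add h h4
              have e : -(q : ℤ) ^ k - 1 + ((q : ℤ) ^ k - 1) = -2 := by ring
              rw [e, dvd_neg] at this
              exact this
            have h6 : r ∣ 2 := by exact_mod_cast h5
            exact hr2 ((Nat.prime_dvd_prime_iff_eq hr Nat.prime_two).1 h6)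
      · refine hpart (Or.inr ⟨u, w, 2 ^ (t - u) * m, hw, hqu, ?_⟩) (by
          rintro ⟨rfl, -⟩
          exact absurd hqodd (by decide))
        rw [← mul_assoc, ← pow_add, Nat.add_sub_cancel' (by omega)]
        exact hnm
  · -- `n` odd
    obtain ⟨r, hr, hrm, hrd, hrq⟩ := Cfsg.Agent.Lib.Zsigmondy.exists_primitive (a := q) (n := 2 * n)
      hq2 (by omega) (by omega) (by omega)
    refine ⟨r, hr, prime_ne_two hrd hr (by omega),
      dvd_card_psu hF (by omega) hr (not_dvd_add_one hrm (by omega)) (i := n - 1) (by omega) ?_,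
      psu_full hF hn hodd hr (hrF hr hrq)
        (orderOf_card_sq hF (by omega) hrm fun m => Nat.mul_dvd_mul_iff_left two_pos)⟩
    have hev2 : Even (n - 1) := by
      obtain ⟨a, ha⟩ := hodd
      exact ⟨a, by omega⟩
    rw [if_pos hev2, show n - 1 + 1 = n by omega]
    exact dvd_pow_add_one_of_primitive hr (by omega) hrm

theorem far_of_isPSU {G : Type*} [Group G] (h : IsPSU G) : Far G := by
  obtain ⟨F, _, _, n, q, hF, hn, hex, ⟨e⟩⟩ := h
  exact (psu_far hF hn hex).congr e.symm

end Cfsg.Agent.H150
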