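import Cfsg.Agent.H150.FarSp
import Cfsg.Agent.S2238
import Cfsg.Agent.S0333
import Cfsg.Agent.S1159
import Cfsg.Agent.OddCyclic.ClaimC.SzIso

/-!
# An odd prime not adjacent to `2`: Suzuki groups and small Ree groups (helper150)
-/

set_option autoImplicit false

namespace Cfsg.Agent.H150

open Subgroup Cfsg Cfsg.Lie

theorem far_sz {F : Type*} [Field F] [Fintype F] {m : ℕ} (hm : 1 ≤ m) (hF : Fintype.card F = 2 ^ (2 * m + 1)) :
    Far ↥(Cfsg.Sz F m) := by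
  obtain ⟨U, -, hU, -⟩ := Cfsg.Agent.S0333.result hm hF (2 ^ (2 * m + 1) + 2 ^ (m + 1) + 1) (by simp)
  have e1 : 2 ^ (2 * m + 1) = 2 * 2 ^ (2 * m) := by rw [pow_succ]; ring
  have e2 : 2 ^ (m + 1) = 2 * 2 ^ m := by rw [pow_succ]; ring
  have h1 : 1 ≤ 2 ^ (2 * m) := Nat.one_le_two_pow
  have h2 : 1 ≤ 2 ^ m := Nat.one_le_two_pow
  have hr : (Nat.minFac (Nat.card U)).Prime := Nat.minFac_prime (by rw [hU]; omega)
  have hrd : Nat.minFac (Nat.card U) ∣ Nat.card U := Nat.minFac_dvd _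
  generalize Nat.minFac (Nat.card U) = r at hr hrd
  have hr2 : r ≠ 2 := by
    rintro rfl
    rw [hU] at hrd
    omega
  refine ⟨r, hr, hr2, hrd.trans (Subgroup.card_subgroup_dvd_card U), fun g hg => ?_⟩
  have hg1 : g ≠ 1 := by
    rintro rfl
    rw [orderOf_one] at hg
    omega
  obtain ⟨V, ⟨hV, hgV⟩, -⟩ := Cfsg.Agent.S2238.result hm hF g hg1
  rcases hV with ⟨P, rfl⟩ | ⟨-, hN⟩
  · obtain ⟨k, hk⟩ := P.isPGroup' ⟨g, hgV⟩
    have h3 : g ^ 2 ^ k = 1 := congrArg Subtype.val hk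
    have h4 : r ∣ 2 ^ k := (Dvd.intro_left 2 rfl).trans (hg ▸ orderOf_dvd_of_pow_eq_one h3)
    exact hr2 ((Nat.prime_dvd_prime_iff_eq hr Nat.prime_two).1 (hr.dvd_of_dvd_pow h4))
  · have h5 : 2 ∣ Nat.card V := by
      have h6 : orderOf g ∣ Nat.card V := by
        rw [← Subgroup.orderOf_mk g hgV]
        exact orderOf_dvd_natCard _
      exact (Dvd.intro r (by rw [hg])).trans h6
    have h3 : 2 ^ (m + 1) ≤ 2 ^ (2 * m + 1) := Nat.pow_le_pow_right two_pos (by omega)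
    rcases hN with hN | hN | hN <;> rw [hN] at h5 <;> omega

theorem far_of_isoSuzuki {G : Type*} [Group G] (hG : Lie.IsoSuzuki G) : Far G := by
  obtain ⟨F, _, _, m, hm, hF, ⟨e⟩⟩ := hG
  obtain ⟨e'⟩ := Cfsg.Agent.OddCyclic.ClaimC.SzIso.iso hm hF
  exact Far.congr (e'.trans e.symm) (far_sz hm hF)

theorem far_ree {K : Type*} [Field K] [Fintype K] {m : ℕ} (hm : 1 ≤ m) (hK : Fintype.card K = 3 ^ (2 * m + 1)) :
    Far ↥(Cfsg.Lie.twistedG2 K (3 ^ m)) := by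
  have : Finite ↥(Cfsg.Lie.twistedG2 K (3 ^ m)) := inferInstance
  have h1 := fun d => Cfsg.Agent.S1159.result hm hK d
  have e1 : 3 ^ (2 * m + 1) = 3 * (3 ^ m * 3 ^ m) := by rw [pow_succ, two_mul, pow_add]; ring
  have e2 : 3 ^ (m + 1) = 3 * 3 ^ m := by rw [pow_succ]; ring
  have h3 : 3 ≤ 3 ^ m := by
    calc 3 = 3 ^ 1 := (pow_one 3).symm
      _ ≤ 3 ^ m := Nat.pow_le_pow_right (by norm_num) hm
  have hodd : 3 ^ m % 2 = 1 := by rw [Nat.pow_mod]; norm_num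
  rw [e1, e2] at h1
  generalize 3 ^ m = c at h1 h3 hodd ⊢
  obtain ⟨b, hb⟩ : ∃ b, c = 2 * b + 1 := ⟨c / 2, by omega⟩
  have hle : 3 * c ≤ 3 * (c * c) := by nlinarith
  set N := 3 * (c * c) - 3 * c + 1 with hN
  have hNodd : ¬ 2 ∣ N := by
    have h5 : 3 * (c * c) - 3 * c = 2 * (6 * (b * b) + 3 * b) := by
      have : 3 * (c * c) = 3 * c + 2 * (6 * (b * b) + 3 * b) := by rw [hb]; ring
      omega
    rw [hN, h5]
    omega
  have hN1 : N ≠ 1 := by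
    have : 3 * c < 3 * (c * c) := by nlinarith
    omega
  have hr : (Nat.minFac N).Prime := Nat.minFac_prime hN1
  have hrd : Nat.minFac N ∣ N := Nat.minFac_dvd _
  generalize Nat.minFac N = r at hr hrd
  have hr2 : r ≠ 2 := by
    rintro rfl
    exact hNodd hrd
  have hr3 : r ≠ 3 := by
    rintro rfl
    rw [hN] at hrd
    omega
  have hrp := Nat.prime_iff_prime_int.1 hr
  -- `N N' = q ^ 2 - q + 1`
  have hrz : (r : ℤ) ∣ (3 * (c * c : ℤ)) ^ 2 - 3 * (c * c) + 1 := by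
    have h5 : ((N : ℕ) : ℤ) = 3 * (c * c) - 3 * c + 1 := by
      rw [hN]
      push_cast [Nat.cast_sub hle]
      ring
    have h6 : (3 * (c * c : ℤ)) ^ 2 - 3 * (c * c) + 1 = (N : ℤ) * (3 * (c * c) + 3 * c + 1) := by
      rw [h5]; ring
    rw [h6]
    exact dvd_mul_of_dvd_left (Int.natCast_dvd_natCast.2 hrd) _
  have hm1 : ¬ r ∣ 3 * (c * c) - 1 := by
    intro h
    have h5 : (r : ℤ) ∣ 3 * (c * c) - 1 := by
      have := Int.natCast_dvd_natCast.2 h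
      rwa [Nat.cast_sub (by nlinarith), Nat.cast_mul, Nat.cast_mul, Nat.cast_one, Nat.cast_ofNat] at this
    have h6 : (r : ℤ) ∣ 1 := by
      have h7 := dvd_sub hrz (dvd_mul_of_dvd_left h5 (3 * (c * c : ℤ)))
      have h8 : (3 * (c * c : ℤ)) ^ 2 - 3 * (c * c) + 1 - (3 * (c * c) - 1) * (3 * (c * c : ℤ)) = 1 := by ring
      rwa [h8] at h7
    exact hrp.not_dvd_one h6
  have hm2 : ¬ r ∣ (3 * (c * c) + 1) / 2 := by
    intro h
    have h4 : 2 ∣ 3 * (c * c) + 1 := by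
      have : 3 * (c * c) + 1 = 2 * (6 * (b * b) + 6 * b + 2) := by rw [hb]; ring
      rw [this]
      exact Dvd.intro _ rfl
    have h5 : r ∣ 3 * (c * c) + 1 := h.trans (Nat.div_dvd_of_dvd h4)
    have h6 : (r : ℤ) ∣ 3 * (c * c) + 1 := by exact_mod_cast Int.natCast_dvd_natCast.2 h5
    have h7 : (r : ℤ) ∣ 3 := by
      have h8 := dvd_sub hrz (dvd_mul_of_dvd_left h6 (3 * (c * c : ℤ) - 2))
      have h9 : (3 * (c * c : ℤ)) ^ 2 - 3 * (c * c) + 1 - (3 * (c * c) + 1) * (3 * (c * c : ℤ) - 2) = 3 := by ring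
      rwa [h9] at h8
    have h8 : r ∣ 3 := by exact_mod_cast h7
    exact hr3 ((Nat.prime_dvd_prime_iff_eq hr Nat.prime_three).1 h8)
  obtain ⟨x, hx⟩ := (h1 r).2 (Or.inr (Or.inr (Or.inr (Or.inr (Or.inl hrd)))))
  refine ⟨r, hr, hr2, hx ▸ orderOf_dvd_natCard x, fun g hg => ?_⟩
  rcases (h1 (2 * r)).1 ⟨g, hg⟩ with h | h | h | h | h | h
  · have h5 : r ∣ 3 := Nat.dvd_of_mul_dvd_mul_left two_pos (h.trans (by norm_num))
    exact hr3 ((Nat.prime_dvd_prime_iff_eq hr Nat.prime_three).1 h5)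
  · have h5 : 2 ∣ 9 := (Dvd.intro r rfl).trans h
    omega
  · exact hm1 ((Dvd.intro_left 2 rfl).trans h)
  · exact hm2 ((Dvd.intro_left 2 rfl).trans h)
  · exact hNodd ((Dvd.intro r rfl).trans h)
  · have h5 : 2 ∣ 3 * (c * c) + 3 * c + 1 := (Dvd.intro r rfl).trans h
    have h6 : 3 * (c * c) + 3 * c + 1 = 2 * (6 * (b * b) + 9 * b + 3) + 1 := by rw [hb]; ring
    omega

theorem far_of_isoRee {G : Type*} [Group G] (hG : Lie.IsoRee G) : Far G := by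
  obtain ⟨K, _, _, m, hm, hK, ⟨e⟩⟩ := hG
  exact Far.congr e.symm (far_ree hm hK)

end Cfsg.Agent.H150
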