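import Cfsg.Agent.H150.FarSp
import Cfsg.Agent.H150.FarRank
import Cfsg.Agent.S2369
import Cfsg.Agent.S1068

/-!
# An odd prime not adjacent to `2`: `²F₄(q)` (helper150)
-/

set_option autoImplicit false
set_option linter.style.haveILetI false

namespace Cfsg.Agent.H150

open Cfsg Cfsg.Lie

theorem far_twistedF4 {K : Type*} [Field K] [Fintype K] (m : ℕ) (hm : 1 ≤ m)
    (hK : Fintype.card K = 2 ^ (2 * m + 1)) : Far ↥(twistedF4 K (2 ^ m)) := by
  set q : ℕ := 2 ^ (2 * m + 1) with hq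
  have hq2 : 2 ≤ q := by
    calc 2 = 2 ^ 1 := rfl
      _ ≤ 2 ^ (2 * m + 1) := Nat.pow_le_pow_right (by norm_num) (by omega)
  obtain ⟨r, hr, hrm, hrd, hrq⟩ := Cfsg.Agent.Lib.Zsigmondy.exists_primitive (a := q) (n := 12) hq2 (by norm_num)
    (by norm_num) (by omega)
  have hr2 : r ≠ 2 := by
    rintro rfl
    exact hrq (by rw [hq]; exact dvd_pow_self 2 (by omega))
  have h4 : ¬ r ∣ q ^ 4 - 1 := fun h => by
    have := (hrm 4).1 h
    omega
  refine ⟨r, hr, hr2, ?_, fun g hg => ?_⟩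
  · rw [Cfsg.Agent.S1068.result hK, ← hq]
    exact dvd_mul_of_dvd_right (dvd_pow_add_one_of_primitive hr (by norm_num) hrm) _
  · have h1 : orderOf (g ^ 2) = r := by
      rw [orderOf_pow_of_dvd two_ne_zero (by rw [hg]; exact Dvd.intro _ rfl), hg]
      exact Nat.mul_div_cancel_left _ two_pos
    have h2 : orderOf (g ^ r) = 2 := by
      rw [orderOf_pow_of_dvd hr.ne_zero (by rw [hg]; exact Dvd.intro_left _ rfl), hg]
      exact Nat.mul_div_cancel _ hr.pos
    have h3 := Cfsg.Agent.S2369.result m hm hK (g ^ r) (g ^ 2) h2 ((Commute.refl g).pow_pow r 2)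
    have h5 : r ∈ (orderOf (g ^ 2)).primeFactors := by
      rw [h1]
      exact Nat.mem_primeFactors.2 ⟨hr, dvd_rfl, hr.ne_zero⟩
    have h6 := Nat.dvd_of_mem_primeFactors (h3 h5)
    rcases hr.dvd_mul.1 h6 with h7 | h7
    · exact hrq h7
    · exact h4 h7

theorem far_of_iso2F4 {G : Type*} [Group G] (h : Iso2F4 G) : Far G := by
  obtain ⟨K, _, _, m, hm, hK, ⟨e⟩⟩ := h
  exact Far.congr e.symm (far_twistedF4 m hm hK)

end Cfsg.Agent.H150
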