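import Cfsg.Agent.H150.FarAlt
import Cfsg.Agent.H150.FarPSL
import Cfsg.Agent.H150.FarPSUTwo
import Cfsg.Agent.H150.FarOrthEven
import Cfsg.Agent.H150.FarRank
import Cfsg.Agent.H150.FarE7
import Cfsg.Agent.H150.FarTw
import Cfsg.Agent.H150.FarTwF4
import Cfsg.Agent.H393.Iso.Far

/-!
# All rows of `Far` (helper150)

`far_of_known` : a known finite simple group which is neither of prime order nor alternating has an odd prime which is
not adjacent to `2` in the prime graph.
-/

set_option autoImplicit false

namespace Cfsg.Agent.H150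

open Cfsg Cfsg.Lie

variable {G : Type*} [Group G]

theorem far_of_isExceptional [Finite G] (h : IsExceptionalLieType G) : Far G := by
  rcases h with h | h | h | h | h | h | h | h | h | h | h
  · obtain ⟨F, _, _, -, ⟨e⟩⟩ := h
    exact Far.congr e.symm far_G2
  · obtain ⟨F, _, _, ⟨e⟩⟩ := h
    exact Far.congr e.symm far_F4
  · obtain ⟨F, _, _, ⟨e⟩⟩ := h
    exact Far.congr e.symm far_E6
  · obtain ⟨F, _, _, ⟨e⟩⟩ := h
    exact Far.congr e.symm far_E7
  · obtain ⟨F, _, _, ⟨e⟩⟩ := h
    exact Far.congr e.symm far_E8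
  · exact far_of_iso2E6 h
  · exact far_of_iso3D4 h
  · exact far_of_isoSuzuki h
  · exact far_of_isoRee h
  · exact far_of_iso2F4 h
  · exact Cfsg.Agent.H393.Iso.far_of_isTits h

/-- **The table.** -/
theorem far_of_known [Finite G] [IsSimpleGroup G] (h : IsKnownSimple' G) (h1 : ¬ IsPrimeCyclic G)
    (h2 : ¬ IsAlternating G) : Far G := by
  rcases h with h | h | h | h | h | h | h | h | h | h
  · exact absurd h h1
  · exact absurd h h2
  · exact far_of_isPSL h
  · exact far_of_isPSp h
  · exact far_of_isPSU h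
  · exact far_of_isPOmegaOdd h
  · exact far_of_isPOmegaPlus h
  · exact far_of_isPOmegaMinus h
  · exact far_of_isExceptional h
  · exact Cfsg.Agent.H393.Iso.far_of_isSporadic h

end Cfsg.Agent.H150
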