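import Cfsg.Agent.H150.FarSp
import Cfsg.Agent.S2467

/-!
# The alternating row of S2473 (helper150)
-/

set_option autoImplicit false

namespace Cfsg.Agent.H150

open Cfsg

theorem alt_row {G : Type*} [Group G] (h : ∀ r : ℕ, r.Prime → r ≠ 2 → r ∣ Nat.card G → 2 * r ∈ Set.range (orderOf : G → ℕ))
    {n : ℕ} (hn : 5 ≤ n) (e : G ≃* alternatingGroup (Fin n)) :
    ∀ s : ℕ, s.Prime → ¬ (n - 3 ≤ s ∧ s ≤ n) := by
  intro s hs hsn
  obtain ⟨r, hr, hr2, hr3, hrn⟩ : ∃ r : ℕ, r.Prime ∧ r ≠ 2 ∧ n - 3 ≤ r ∧ r ≤ n := by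
    by_cases hs2 : s = 2
    · exact ⟨5, Nat.prime_five, by norm_num, by omega, by omega⟩
    · exact ⟨s, hs, hs2, hsn.1, hsn.2⟩
  have hdvd : r ∣ Nat.card G := by
    rw [Nat.card_congr e.toEquiv]
    have h1 : 2 * Nat.card (alternatingGroup (Fin n)) = n.factorial := by
      haveI : Nontrivial (Fin n) := Fin.nontrivial_iff_two_le.2 (by omega)
      have := two_mul_nat_card_alternatingGroup (α := Fin n)
      rw [this, Nat.card_perm, Nat.card_eq_fintype_card, Fintype.card_fin]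
    have h2 : r ∣ 2 * Nat.card (alternatingGroup (Fin n)) := by
      rw [h1]
      exact (hr.dvd_factorial).2 hrn
    exact (hr.dvd_mul.1 h2).resolve_left fun h3 => hr2 ((Nat.prime_dvd_prime_iff_eq hr Nat.prime_two).1 h3)
  obtain ⟨g, hg⟩ := h r hr hr2 hdvd
  have h4 := (Cfsg.Agent.S2467.result n r (by omega) hr hr2 hrn).1 ⟨e g, by
    show orderOf (e g) = 2 * r
    rw [MulEquiv.orderOf_eq]
    exact hg⟩
  omega

theorem not_far {G : Type*} [Group G] (h : ∀ r : ℕ, r.Prime → r ≠ 2 → r ∣ Nat.card G → 2 * r ∈ Set.range (orderOf : G → ℕ)) :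
    ¬ Far G := by
  rintro ⟨r, hr, hr2, hd, hg⟩
  obtain ⟨g, h1⟩ := h r hr hr2 hd
  exact hg g h1

end Cfsg.Agent.H150
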