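import Cfsg.Agent.H336.LinFour.Basic
import Mathlib.GroupTheory.Perm.Support

/-!
# `LinFour`: the row of the symmetric groups (S1918)
-/

set_option autoImplicit false

namespace Cfsg.Agent.H150.LinFourSym

open Cfsg Subgroup Equiv
open Cfsg.Agent.H336.LinFour hiding V
open Cfsg.Agent.H336.LinFour (V)

variable {α : Type*} [Fintype α] [DecidableEq α] {th : V → Equiv.Perm α} {O K0 : Subgroup (Equiv.Perm α)}

/-- the orbit of `x` under `A` -/
def Orb (th : V → Equiv.Perm α) (x : α) : α → Prop := fun y => ∃ u, th u x = y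

omit [Fintype α] [DecidableEq α] in
theorem orb_iff (h : Sit th O K0) (x : α) (v : V) (y : α) : Orb th x (th v y) ↔ Orb th x y := by
  constructor
  · rintro ⟨u, hu⟩
    refine ⟨v + u, ?_⟩
    rw [h.add, Perm.mul_apply, hu, ← Perm.mul_apply, h.sq, Perm.one_apply]
  · rintro ⟨u, rfl⟩
    exact ⟨v + u, by rw [h.add, Perm.mul_apply]⟩

omit [Fintype α] [DecidableEq α] in
theorem orb_self (h : Sit th O K0) (x : α) : Orb th x x := ⟨0, by rw [h.zero, Perm.one_apply]⟩

omit [Fintype α] [DecidableEq α] in
theorem orb_symm (h : Sit th O K0) {x y : α} (hxy : Orb th x y) : Orb th y x := by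
  obtain ⟨u, rfl⟩ := hxy
  exact ⟨u, by rw [← Perm.mul_apply, h.sq, Perm.one_apply]⟩

open Classical in
/-- the cut of `th v` to the orbit of `x` -/
theorem exists_cut (h : Sit th O K0) (x : α) (v : V) :
    ∃ w : V, ∀ y, th w y = if Orb th x y then th v y else y := by
  classical
  have hp : ∀ y, Orb th x (th v y) ↔ Orb th x y := orb_iff h x v
  let c : Equiv.Perm α := Perm.ofSubtype ((th v).subtypePerm hp)
  have hc : ∀ y, c y = if Orb th x y then th v y else y := by
    intro y
    by_cases hy : Orb th x y
    · rw [if_pos hy]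
      exact (Perm.ofSubtype_apply_of_mem _ hy).trans rfl
    · rw [if_neg hy]
      exact Perm.ofSubtype_apply_of_not_mem _ hy
  have hcomm : ∀ w, c * th w = th w * c := by
    intro w
    ext1 y
    rw [Perm.mul_apply, Perm.mul_apply, hc, hc]
    by_cases hy : Orb th x y
    · rw [if_pos hy, if_pos ((orb_iff h x w y).2 hy), ← Perm.mul_apply, h.comm, Perm.mul_apply]
    · rw [if_neg hy, if_neg (fun hh => hy ((orb_iff h x w y).1 hh))]
  have hsq : c * c = 1 := by
    ext1 y
    rw [Perm.mul_apply, hc, hc, Perm.one_apply]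
    by_cases hy : Orb th x y
    · rw [if_pos hy, if_pos ((orb_iff h x v y).2 hy), ← Perm.mul_apply, h.sq, Perm.one_apply]
    · rw [if_neg hy, if_neg hy]
  obtain ⟨w, hw⟩ := h.mem_of_mul_self hcomm hsq
  exact ⟨w, fun y => by rw [hw, hc]⟩

theorem card_support_eq (h : Sit th O K0) {u v : V} (hu : u ≠ 0) (hv : v ≠ 0) :
    (th u).support.card = (th v).support.card := by
  obtain ⟨k, -, hk⟩ := h.exists_conj hu hv
  rw [← hk, Perm.card_support_conj]

/-- **the support of `th v` is the orbit of each of its points** -/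
theorem mem_support_iff (h : Sit th O K0) {v : V} {x : α} (hx : th v x ≠ x) (y : α) :
    th v y ≠ y ↔ Orb th x y := by
  classical
  have hv : v ≠ 0 := by
    rintro rfl
    exact hx (by rw [h.zero, Perm.one_apply])
  obtain ⟨w, hw⟩ := exists_cut h x v
  have hw0 : w ≠ 0 := by
    rintro rfl
    have h1 := hw x
    rw [if_pos (orb_self h x), h.zero, Perm.one_apply] at h1
    exact hx h1.symm
  have hsub : (th w).support ⊆ (th v).support := by
    intro y hy
    rw [Perm.mem_support] at hy ⊢
    rw [hw] at hy
    by_cases h1 : Orb th x y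
    · rwa [if_pos h1] at hy
    · rw [if_neg h1] at hy
      exact absurd rfl hy
  have heq : (th w).support = (th v).support :=
    Finset.eq_of_subset_of_card_le hsub (card_support_eq h hv hw0).le
  constructor
  · intro hy
    have h1 : y ∈ (th w).support := by rw [heq, Perm.mem_support]; exact hy
    rw [Perm.mem_support, hw] at h1
    by_contra h2
    rw [if_neg h2] at h1
    exact h1 rfl
  · rintro ⟨u, rfl⟩ h1
    apply hx
    apply (th u).injective
    rw [← Perm.mul_apply, h.comm, Perm.mul_apply, h1]

/-- a point moved by `A` has trivial stabiliser -/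
theorem free (h : Sit th O K0) {v : V} {x : α} (hx : th v x ≠ x) {u : V} (hu : u ≠ 0) : th u x ≠ x := by
  intro hux
  obtain ⟨y, hy⟩ : ∃ y, th u y ≠ y := by
    by_contra hcon
    push Not at hcon
    apply hu
    rw [← h.eq_one_iff]
    ext1 y
    rw [hcon y, Perm.one_apply]
  have hxy : ¬ Orb th y x := fun hh => (mem_support_iff h hy x).2 hh hux
  have hyx : ¬ Orb th x y := fun hh => hxy (orb_symm h hh)
  have hvy : th v y = y := by
    by_contra h1
    exact hyx ((mem_support_iff h hx y).1 h1)
  have h2 : th (v + u) x ≠ x := by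
    rw [h.add, Perm.mul_apply, hux]; exact hx
  have h3 : th (v + u) y ≠ y := by
    rw [h.add, h.comm, Perm.mul_apply, hvy]; exact hy
  exact hyx ((mem_support_iff h h2 y).1 h3)

/-- **The row.** -/
theorem card_eq (h : Sit th O K0) : Fintype.card α = 16 ∨ Fintype.card α = 17 := by
  classical
  obtain ⟨v, hv⟩ : ∃ v : V, v ≠ 0 := exists_ne 0
  obtain ⟨x, hx⟩ : ∃ x, th v x ≠ x := by
    by_contra hcon
    push Not at hcon
    apply hv
    rw [← h.eq_one_iff]
    ext1 y
    rw [hcon y, Perm.one_apply]
  have hinj : Function.Injective (fun u : V => th u x) := by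
    intro u w huw
    by_contra hne
    have h1 : u + w ≠ 0 := fun hh => hne ((Cfsg.Agent.H336.LinFour.add_eq_zero_iff u w).1 hh)
    apply free h hx h1
    have huw' : th u x = th w x := huw
    rw [add_comm, h.add, Perm.mul_apply, huw', ← Perm.mul_apply, h.sq, Perm.one_apply]
  let I : Finset α := Finset.univ.image (fun u : V => th u x)
  have hI : I.card = 16 := by
    rw [Finset.card_image_of_injective _ hinj, Finset.card_univ]
    simp [V]
  have hfix : ∀ y, y ∉ I → ∀ w, th w y = y := by
    intro y hy w
    by_cases hw : w = 0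
    · rw [hw, h.zero, Perm.one_apply]
    by_contra h1
    apply hy
    obtain ⟨u, hu⟩ := (mem_support_iff h (free h hx hw) y).1 h1
    exact Finset.mem_image.2 ⟨u, Finset.mem_univ _, hu⟩
  have hc : (Iᶜ).card ≤ 1 := by
    rw [Finset.card_le_one]
    intro a ha b hb
    rw [Finset.mem_compl] at ha hb
    by_contra hab
    have hcomm : ∀ w, swap a b * th w = th w * swap a b := by
      intro w
      have h1 := swap_apply_apply (th w) a b
      rw [hfix a ha w, hfix b hb w] at h1
      rw [eq_comm, ← mul_inv_eq_iff_eq_mul]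
      exact h1.symm
    obtain ⟨w, hw⟩ := h.mem_of_mul_self hcomm (swap_mul_self a b)
    have h2 := hfix a ha w
    rw [hw, swap_apply_left] at h2
    exact hab h2.symm
  have h1 := Finset.card_compl_add_card I
  omega

/-- **The symmetric row.** -/
theorem row_sym {n : ℕ} {th : V → Equiv.Perm (Fin n)} {O K0 : Subgroup (Equiv.Perm (Fin n))} (h : Sit th O K0) :
    n = 16 ∨ n = 17 := by
  have h1 := card_eq h
  rwa [Fintype.card_fin] at h1

end Cfsg.Agent.H150.LinFourSym
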