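import Cfsg.Agent.H336.LinFour.Basic
import Cfsg.Agent.H336.LinFour.Equiv
import Cfsg.Agent.H150.LinFourSym
import Cfsg.Agent.S2601
import Cfsg.Agent.S2064
import Cfsg.Agent.StandardComponent.AltAut
import Cfsg.Agent.SylowL5.Coords
import Cfsg.Prelude.Def_Spor_Mathieu

/-!
# `LinFour`, the END (S1918, task 3160)

`G` finite, `K` normal in `G` with trivial centralizer, `K` alternating of degree `16 .. 19`, `GL_5(2)` or `M24`:
`G` is one of the groups of the list.
-/

set_option autoImplicit false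

namespace Cfsg.Agent.H150.LinFourEnd

open Cfsg Subgroup Equiv
open Cfsg.Agent.H336.LinFour hiding V
open Cfsg.Agent.H336.LinFour (V)

section General

variable {G : Type*} [Group G] (K : Subgroup G) [K.Normal]

theorem conjNormal_injective (hC : centralizer (K : Set G) = ⊥) :
    Function.Injective (MulAut.conjNormal : G →* MulAut K) := by
  rw [← MonoidHom.ker_eq_bot_iff, eq_bot_iff, ← hC]
  intro g hg
  rw [mem_centralizer_iff]
  intro x hx
  have h1 := congrArg (fun f : MulAut K => ((f ⟨x, hx⟩ : K) : G)) (MonoidHom.mem_ker.1 hg)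
  simp only [MulAut.conjNormal_apply, MulAut.one_apply] at h1
  rw [mul_inv_eq_iff_eq_mul] at h1
  exact h1.symm

theorem conjNormal_coe (k : K) : (MulAut.conjNormal (k : G) : MulAut K) = MulAut.conj k := by
  ext x
  simp

theorem inn_le_range : Cfsg.Inn K ≤ (MulAut.conjNormal : G →* MulAut K).range := by
  rintro _ ⟨k, rfl⟩
  exact ⟨k, conjNormal_coe K k⟩

/-- if the image of `G` is inner, then `K = G` -/
theorem eq_top_of_range_le (hC : centralizer (K : Set G) = ⊥)
    (h : (MulAut.conjNormal : G →* MulAut K).range ≤ Cfsg.Inn K) : K = ⊤ := by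
  rw [eq_top_iff]
  intro g _
  obtain ⟨k, hk⟩ := h ⟨g, rfl⟩
  have h1 : (k : G) = g := conjNormal_injective K hC (by rw [conjNormal_coe]; exact hk)
  rw [← h1]
  exact k.2

omit [K.Normal] in
theorem card_out : Nat.card (Cfsg.Out K) = (Cfsg.Inn K).index := rfl

/-- **`Out K = 1`.** -/
theorem eq_top_of_out (hC : centralizer (K : Set G) = ⊥) (h : Nat.card (Cfsg.Out K) = 1) : K = ⊤ := by
  rw [card_out, Subgroup.index_eq_one] at h
  exact eq_top_of_range_le K hC (by rw [h]; exact le_top)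

/-- **`|Out K| = 2`.** -/
theorem cases_of_out (hC : centralizer (K : Set G) = ⊥) (h : Nat.card (Cfsg.Out K) = 2) :
    K = ⊤ ∨ Nonempty (G ≃* MulAut K) := by
  rw [card_out] at h
  have h1 := relIndex_mul_index (inn_le_range K)
  rw [h] at h1
  have h2 : (Cfsg.Inn K).relIndex (MulAut.conjNormal : G →* MulAut K).range ∣ 2 := ⟨_, h1.symm⟩
  rcases (Nat.dvd_prime Nat.prime_two).1 h2 with h3 | h3
  · left
    exact eq_top_of_range_le K hC (relIndex_eq_one.1 h3)
  · right
    rw [h3] at h1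
    have h4 : (MulAut.conjNormal : G →* MulAut K).range.index = 1 := by omega
    rw [index_eq_one] at h4
    exact ⟨MulEquiv.ofBijective (MulAut.conjNormal : G →* MulAut K)
      ⟨conjNormal_injective K hC, MonoidHom.range_eq_top.1 h4⟩⟩

end General

/-- transport of `Out` -/
theorem card_out_congr {K L : Type*} [Group K] [Group L] (e : K ≃* L) :
    (Cfsg.Inn K).index = (Cfsg.Inn L).index := by
  let E : MulAut K ≃* MulAut L := MulAut.congr e
  have h1 : (Cfsg.Inn K).map E.toMonoidHom = Cfsg.Inn L := by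
    ext α
    constructor
    · rintro ⟨_, ⟨k, rfl⟩, rfl⟩
      refine ⟨e k, ?_⟩
      ext x
      simp [E, MulAut.congr]
    · rintro ⟨l, rfl⟩
      refine ⟨MulAut.conj (e.symm l), ⟨_, rfl⟩, ?_⟩
      ext x
      simp [E, MulAut.congr]
  rw [← h1, Subgroup.index_map_of_bijective (f := E.toMonoidHom) E.bijective]

/-- `SL_5(2) = GL_5(2)` -/
noncomputable def slEquiv : Matrix.SpecialLinearGroup (Fin 5) (ZMod 2) ≃* GL (Fin 5) (ZMod 2) :=
  MulEquiv.ofBijective Matrix.SpecialLinearGroup.toGL ⟨by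
    intro A B h
    apply Subtype.ext
    exact congrArg Units.val h, by
    intro A
    have hA : (A : Matrix (Fin 5) (Fin 5) (ZMod 2)).det = 1 := by
      have h2 : IsUnit (A : Matrix (Fin 5) (Fin 5) (ZMod 2)).det :=
        (Matrix.isUnit_iff_isUnit_det _).1 A.isUnit
      have h3 : ∀ x : ZMod 2, x ≠ 0 → x = 1 := by decide
      exact h3 _ h2.ne_zero
    let B : Matrix.SpecialLinearGroup (Fin 5) (ZMod 2) := ⟨(A : Matrix (Fin 5) (Fin 5) (ZMod 2)), hA⟩
    exact ⟨B, Units.ext (Matrix.SpecialLinearGroup.coe_GL_coe_matrix B)⟩⟩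

/-- `Out GL_5(2)` has order 2 -/
theorem out_gl : (Cfsg.Inn (GL (Fin 5) (ZMod 2))).index = 2 := by
  have : Fact (Nat.Prime 2) := ⟨Nat.prime_two⟩
  rw [← card_out_congr (Cfsg.Agent.SylowL5.Coords.pslTwo.trans slEquiv)]
  obtain ⟨φ, hφ, -, hk⟩ := Cfsg.Agent.S2601.result (F := ZMod 2) (p := 2) (f := 1) (n := 5) le_rfl (by
    rw [pow_one]; exact ZMod.card 2) (by norm_num)
  have h1 := (φ.ker).card_mul_index
  rw [hk, show Nat.gcd 5 (2 ^ 1 - 1) = 1 by norm_num, one_mul, Subgroup.index_ker, MonoidHom.range_eq_top.2 hφ,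
    card_top] at h1
  have h2 : Nat.card (Multiplicative (ZMod 1 × ZMod 2)) = 2 := by
    rw [Nat.card_congr Multiplicative.toAdd, Nat.card_prod, Nat.card_zmod, Nat.card_zmod]
  rw [h2] at h1
  exact h1.symm

/-- **(b)** -/
theorem gl {G : Type*} [Group G] (K : Subgroup G) [K.Normal] (hC : centralizer (K : Set G) = ⊥)
    (e : K ≃* GL (Fin 5) (ZMod 2)) :
    Nonempty (G ≃* GL (Fin 5) (ZMod 2)) ∨ Nonempty (G ≃* MulAut (GL (Fin 5) (ZMod 2))) := by
  have h1 : Nat.card (Cfsg.Out K) = 2 := by rw [card_out, card_out_congr e, out_gl]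
  obtain h2 | ⟨⟨f⟩⟩ := cases_of_out K hC h1
  · left
    subst h2
    exact ⟨topEquiv.symm.trans e⟩
  · right
    exact ⟨f.trans (MulAut.congr e)⟩

/-- **(c)** -/
theorem m24 {G : Type*} [Group G] (K : Subgroup G) [K.Normal] (hC : centralizer (K : Set G) = ⊥)
    (h : Cfsg.Spor.IsoM24 K) : Cfsg.Spor.IsoM24 G := by
  obtain ⟨e⟩ := h
  have h1 : Nat.card (Cfsg.Out K) = 1 := by
    rw [card_out, card_out_congr e]
    exact Cfsg.Agent.S2064.result
  have h2 := eq_top_of_out K hC h1
  subst h2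
  exact ⟨topEquiv.symm.trans e⟩

/-- the alternating case: `G ≅ A_n` or `G ≅ S_n` -/
theorem alt_or_sym {G : Type*} [Group G] (K : Subgroup G) [K.Normal] (hC : centralizer (K : Set G) = ⊥)
    {n : ℕ} (hn : 7 ≤ n) (e : K ≃* alternatingGroup (Fin n)) :
    Nonempty (G ≃* alternatingGroup (Fin n)) ∨ Nonempty (G ≃* Equiv.Perm (Fin n)) := by
  obtain ⟨ψ, hψ⟩ := Cfsg.Agent.StandardComponent.AltAut.exists_autHom n hn
  have hψi : Function.Injective ψ := by
    rw [← MonoidHom.ker_eq_bot_iff, eq_bot_iff]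
    intro α hα
    rw [MonoidHom.mem_ker] at hα
    rw [mem_bot]
    ext1 x
    apply Subtype.ext
    rw [hψ, hα, one_mul, inv_one, mul_one, MulAut.one_apply]
  let F : G →* Equiv.Perm (Fin n) :=
    (ψ.comp (MulAut.congr e).toMonoidHom).comp (MulAut.conjNormal : G →* MulAut K)
  have hF : Function.Injective F :=
    (hψi.comp (MulAut.congr e).injective).comp (conjNormal_injective K hC)
  have hFK : ∀ k : K, F k = (e k : Equiv.Perm (Fin n)) := by
    intro k
    obtain ⟨m, rfl⟩ : ∃ m, n = m + 2 := ⟨n - 2, by omega⟩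
    apply Cfsg.Agent.StandardComponent.AltAut.conj_unique (m := m) (by omega)
    intro x
    have h1 := hψ ((MulAut.congr e) (MulAut.conj k)) x
    have h2 : F k = ψ ((MulAut.congr e) (MulAut.conj k)) := by
      change ψ ((MulAut.congr e) (MulAut.conjNormal (k : G))) = _
      rw [conjNormal_coe]
    rw [h2, ← h1]
    simp [MulAut.congr]
  have hle : alternatingGroup (Fin n) ≤ F.range := by
    intro x hx
    exact ⟨(e.symm ⟨x, hx⟩ : K), by rw [hFK, e.apply_symm_apply]⟩
  have hnt : Nontrivial (Fin n) := Fin.nontrivial_iff_two_le.2 (by omega)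
  have hidx : (alternatingGroup (Fin n)).index = 2 := alternatingGroup.index_eq_two
  have h1 := relIndex_mul_index hle
  rw [hidx] at h1
  have h2 : (alternatingGroup (Fin n)).relIndex F.range ∣ 2 := ⟨_, h1.symm⟩
  rcases (Nat.dvd_prime Nat.prime_two).1 h2 with h3 | h3
  · left
    have h4 : F.range = alternatingGroup (Fin n) := le_antisymm (relIndex_eq_one.1 h3) hle
    exact ⟨(MonoidHom.ofInjective hF).trans (MulEquiv.subgroupCongr h4)⟩
  · right
    rw [h3] at h1
    have h4 : F.range.index = 1 := by omega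
    rw [index_eq_one] at h4
    exact ⟨(MonoidHom.ofInjective hF).trans ((MulEquiv.subgroupCongr h4).trans topEquiv)⟩

/-- **(a)** -/
theorem alt {G : Type*} [Group G] {th : V → G} {O K0 : Subgroup G} (h : Sit th O K0) (K : Subgroup G) [K.Normal]
    (hC : centralizer (K : Set G) = ⊥) {n : ℕ} (h16 : 16 ≤ n) (h19 : n ≤ 19) (e : K ≃* alternatingGroup (Fin n)) :
    (∃ n : ℕ, 16 ≤ n ∧ n ≤ 19 ∧ Nonempty (G ≃* alternatingGroup (Fin n))) ∨
      (∃ n : ℕ, (n = 16 ∨ n = 17) ∧ Nonempty (G ≃* Equiv.Perm (Fin n))) := by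
  obtain h1 | ⟨⟨f⟩⟩ := alt_or_sym K hC (by omega) e
  · exact Or.inl ⟨n, h16, h19, h1⟩
  · exact Or.inr ⟨n, LinFourSym.row_sym (h.equiv f), ⟨f⟩⟩

end Cfsg.Agent.H150.LinFourEnd
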